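import Cfsg.Agent.Lib.Lie.TwoQ.Norm
import Cfsg.Agent.Lib.Fusion.Cores
import Cfsg.Agent.Lib.Solv.CIT.CNLift
import Cfsg.Agent.Lib.Char.Burnside
import Cfsg.Agent.S0214

/-!
# Groups in which the orders divisible by two or by one odd prime `q` are `2`, `q` and `2q`
-/

set_option autoImplicit false
set_option linter.unusedSectionVars false
set_option linter.style.haveILetI false

namespace Cfsg.Agent.Lie.TwoQ

open Cfsg

universe u

/-- The standing hypothesis. -/
structure Hyp (G : Type u) [Group G] (q : ℕ) : Prop where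
  prime : q.Prime
  ne_two : q ≠ 2
  two : ∀ x : G, 2 ∣ orderOf x → orderOf x = 2 ∨ orderOf x = 2 * q
  qord : ∀ x : G, q ∣ orderOf x → orderOf x = q ∨ orderOf x = 2 * q
  ex : ∃ x : G, orderOf x = 2 * q

section Generic

/-- A nontrivial group of odd order has a fixed point for one of three commuting involutions. -/
theorem exists_fixed_four {Y : Type*} [Group Y] [Finite Y] (hY : Odd (Nat.card Y)) (hY1 : Nontrivial Y)
    (α β : MulAut Y) (hα : α * α = 1) (hβ : β * β = 1) :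
    ∃ γ : MulAut Y, (γ = α ∨ γ = β ∨ γ = α * β) ∧ ∃ y : Y, y ≠ 1 ∧ γ y = y := by
  by_cases hfa : ∃ y : Y, y ≠ 1 ∧ α y = y
  · exact ⟨α, Or.inl rfl, hfa⟩
  by_cases hfb : ∃ y : Y, y ≠ 1 ∧ β y = y
  · exact ⟨β, Or.inr (Or.inl rfl), hfb⟩
  push Not at hfa hfb
  have hinv : ∀ (γ : MulAut Y), γ * γ = 1 → (∀ y, y ≠ 1 → γ y ≠ y) → ∀ y, γ y = y⁻¹ := fun γ h2 hf y => by
    have hφ : MonoidHom.FixedPointFree γ.toMonoidHom := fun z hz => by_contra fun h => hf z h hz
    exact congrFun (hφ.coe_eq_inv_of_involutive fun z => by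
      show γ (γ z) = z
      rw [← MulAut.mul_apply, h2, MulAut.one_apply]) y
  obtain ⟨y, hy⟩ := exists_ne (1 : Y)
  refine ⟨α * β, Or.inr (Or.inr rfl), y, hy, ?_⟩
  rw [MulAut.mul_apply, hinv β hβ hfb, hinv α hα hfa, inv_inv]

end Generic

variable {G : Type u} [Group G] [Finite G] {q : ℕ}

theorem memC {x s : G} (h : Commute x s) : x ∈ Subgroup.centralizer ({s} : Set G) :=
  Subgroup.mem_centralizer_singleton_iff.2 h.eq

theorem commute_of_memC {x s : G} (h : x ∈ Subgroup.centralizer ({s} : Set G)) : Commute x s :=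
  Subgroup.mem_centralizer_singleton_iff.1 h

theorem mem_normalizer_of_forall {K : Subgroup G} {g : G} (h : ∀ k ∈ K, g * k * g⁻¹ ∈ K) :
    g ∈ Subgroup.normalizer (K : Set G) := by
  have hle : K.map (MulAut.conj g).toMonoidHom ≤ K := by rintro _ ⟨k, hk, rfl⟩; exact h k hk
  refine Subgroup.mem_normalizer_iff.2 fun y => ⟨h y, fun hy => ?_⟩
  obtain ⟨w, hw, e⟩ := (Subgroup.eq_of_le_of_card_ge hle
    (Subgroup.card_map_of_injective (f := (MulAut.conj g).toMonoidHom) (MulAut.conj g).injective).ge).ge hy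
  exact (MulAut.conj g).injective e ▸ hw

theorem le_normalizer_of_mem_iff {A K : Subgroup G} (h : ∀ a ∈ A, ∀ k ∈ K, a * k * a⁻¹ ∈ K) :
    A ≤ Subgroup.normalizer (K : Set G) := fun _ ha => mem_normalizer_of_forall (h _ ha)

theorem exists_prime_pow_power {x : G} (hx : x ≠ 1) :
    ∃ (r i : ℕ), r.Prime ∧ r ∣ orderOf x ∧ orderOf (x ^ i) = r := by
  obtain ⟨r, hr, hd⟩ := Nat.exists_prime_and_dvd (fun e => hx (orderOf_eq_one_iff.1 e))
  exact ⟨r, orderOf x / r, hr, hd, orderOf_pow_orderOf_div (orderOf_pos x).ne' hd⟩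

variable (h : Hyp G q)
include h

theorem Hyp.order_two_pow {x : G} {k : ℕ} (hx : orderOf x = 2 ^ k) : x * x = 1 := by
  rcases k with _ | k
  · rw [pow_zero, orderOf_eq_one_iff] at hx; rw [hx, mul_one]
  rcases h.two x (hx ▸ dvd_pow_self 2 k.succ_ne_zero) with e | e
  · exact (Solv.CITGroups.orderOf_two_iff.1 e).1
  · exfalso
    have hd : q ∣ 2 ^ (k + 1) := by rw [← hx, e]; exact dvd_mul_left q 2
    exact h.ne_two ((Nat.prime_dvd_prime_iff_eq h.prime Nat.prime_two).1 (h.prime.dvd_of_dvd_pow hd))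

theorem Hyp.two_sq {P : Subgroup G} (hP : IsPGroup 2 P) {x : G} (hx : x ∈ P) : x * x = 1 := by
  haveI : Fact (Nat.Prime 2) := ⟨Nat.prime_two⟩
  obtain ⟨k, hk⟩ := IsPGroup.iff_orderOf.1 hP ⟨x, hx⟩
  exact h.order_two_pow (k := k) (by rwa [Subgroup.orderOf_mk] at hk)

theorem Hyp.two_comm {P : Subgroup G} (hP : IsPGroup 2 P) {x y : G} (hx : x ∈ P) (hy : y ∈ P) : x * y = y * x := by
  have hi : ∀ z ∈ P, z⁻¹ = z := fun z hz => inv_eq_of_mul_eq_one_right (h.two_sq hP hz)
  rw [← hi _ (mul_mem hx hy), mul_inv_rev, hi x hx, hi y hy]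

theorem Hyp.q_pow {K : Subgroup G} (hK : IsPGroup q K) {x : G} (hx : x ∈ K) : x ^ q = 1 := by
  haveI := Fact.mk h.prime
  obtain ⟨k, hk⟩ := IsPGroup.iff_orderOf.1 hK ⟨x, hx⟩
  rw [Subgroup.orderOf_mk] at hk
  rcases k with _ | k
  · rw [pow_zero, orderOf_eq_one_iff] at hk; rw [hk, one_pow]
  rcases h.qord x (hk ▸ dvd_pow_self q k.succ_ne_zero) with e | e
  · rw [← e, pow_orderOf_eq_one]
  · exfalso
    have hd : 2 ∣ q ^ (k + 1) := by rw [← hk, e]; exact dvd_mul_right 2 q
    exact h.ne_two ((Nat.prime_dvd_prime_iff_eq Nat.prime_two h.prime).1 (Nat.prime_two.dvd_of_dvd_pow hd)).symm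

theorem Hyp.orderOf_of_mem {K : Subgroup G} (hK : IsPGroup q K) {x : G} (hx : x ∈ K) (hx1 : x ≠ 1) :
    orderOf x = q :=
  haveI := Fact.mk h.prime
  orderOf_eq_prime (h.q_pow hK hx) hx1

/-- No element of order an outside prime centralises an element of order two or `q`. -/
theorem Hyp.no_commute {x y : G} (hx : orderOf x = 2 ∨ orderOf x = q) {r : ℕ} (hr : r.Prime) (hr2 : r ≠ 2)
    (hrq : r ≠ q) (hy : orderOf y = r) (hc : Commute x y) : False := by
  have hco : (orderOf x).Coprime (orderOf y) := by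
    rw [hy]
    rcases hx with e | e <;> rw [e]
    · exact (Nat.coprime_primes Nat.prime_two hr).2 hr2.symm
    · exact (Nat.coprime_primes h.prime hr).2 hrq.symm
  have e := hc.orderOf_mul_eq_mul_orderOf_of_coprime hco
  have hd : r ∣ orderOf (x * y) := by rw [e, hy]; exact dvd_mul_left r _
  have h' : orderOf (x * y) = 2 ∨ orderOf (x * y) = q ∨ orderOf (x * y) = 2 * q := by
    rcases hx with ex | ex
    · exact (h.two (x * y) (by rw [e, ex]; exact dvd_mul_right 2 _)).imp id Or.inr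
    · exact Or.inr (h.qord (x * y) (by rw [e, ex]; exact dvd_mul_right q _))
  rcases h' with e' | e' | e' <;> rw [e'] at hd
  · exact hr2 ((Nat.prime_dvd_prime_iff_eq hr Nat.prime_two).1 hd)
  · exact hrq ((Nat.prime_dvd_prime_iff_eq hr h.prime).1 hd)
  · rcases hr.dvd_mul.1 hd with h1 | h1
    · exact hr2 ((Nat.prime_dvd_prime_iff_eq hr Nat.prime_two).1 h1)
    · exact hrq ((Nat.prime_dvd_prime_iff_eq hr h.prime).1 h1)

/-- Only two primes divide the order of the centraliser of an element of order two or `q`. -/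
theorem Hyp.cent_primes {x : G} (hx : orderOf x = 2 ∨ orderOf x = q) {r : ℕ} (hr : r.Prime)
    (hd : r ∣ Nat.card (Subgroup.centralizer ({x} : Set G))) : r = 2 ∨ r = q := by
  by_contra hc
  push Not at hc
  haveI := Fact.mk hr
  obtain ⟨y, hy⟩ := exists_prime_orderOf_dvd_card' r hd
  exact h.no_commute hx hr hc.1 hc.2 (by rw [Subgroup.orderOf_coe, hy]) (commute_of_memC y.2).symm

theorem Hyp.cent_solvable {x : G} (hx : orderOf x = 2 ∨ orderOf x = q) :
    Group.IsSolvable (Subgroup.centralizer ({x} : Set G)) :=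
  Char.isSolvable_of_two_primes Nat.prime_two h.prime _ rfl fun _ hr hd => h.cent_primes hx hr hd

/-- The norm condition. -/
theorem Hyp.norm_pow {W : Subgroup G} {a : G} {r : ℕ} (hr : r.Prime) (hr2 : r ≠ 2) (hao : orderOf a = r)
    (haW : a ∈ Subgroup.normalizer (W : Set G)) (hW : IsPGroup q W ∨ (IsPGroup 2 W ∧ r ≠ q)) :
    ∀ w ∈ W, (w * a) ^ r = 1 := by
  intro w hw
  have hpw : ∀ n : ℕ, (w * a) ^ n * (a ^ n)⁻¹ ∈ W := by
    intro n
    induction n with
    | zero => simp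
    | succ n ih =>
      rw [pow_succ, pow_succ a, show (w * a) ^ n * (w * a) * (a ^ n * a)⁻¹ =
        (w * a) ^ n * (a ^ n)⁻¹ * (a ^ n * w * (a ^ n)⁻¹) by group]
      exact mul_mem ih ((Subgroup.mem_normalizer_iff.1 (Subgroup.pow_mem _ haW n) w).1 hw)
  have hg := hpw r
  rw [show a ^ r = 1 by rw [← hao, pow_orderOf_eq_one], inv_one, mul_one] at hg
  by_contra hne
  have hgo : orderOf ((w * a) ^ r) = q ∨ (orderOf ((w * a) ^ r) = 2 ∧ r ≠ q) := by
    rcases hW with hW | ⟨hW, hrq⟩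
    · exact Or.inl (h.orderOf_of_mem hW hg hne)
    · exact Or.inr ⟨Solv.CITGroups.orderOf_two_iff.2 ⟨h.two_sq hW hg, hne⟩, hrq⟩
  have hdvd : orderOf ((w * a) ^ r) ∣ orderOf (w * a) := orderOf_pow_dvd r
  have h2q : (w * a) ^ (2 * q) = 1 := by
    rcases hgo with e | ⟨e, -⟩ <;> rw [e] at hdvd
    · rcases h.qord _ hdvd with e' | e'
      · rw [mul_comm, pow_mul, ← e', pow_orderOf_eq_one, one_pow]
      · rw [← e', pow_orderOf_eq_one]
    · rcases h.two _ hdvd with e' | e'
      · rw [pow_mul, ← e', pow_orderOf_eq_one, one_pow]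
      · rw [← e', pow_orderOf_eq_one]
  have haW2 : a ^ (2 * q) ∈ W := by
    have := hpw (2 * q)
    rw [h2q, one_mul] at this
    simpa using W.inv_mem this
  by_cases hrq : r = q
  · rcases hgo with e | ⟨-, h'⟩
    swap
    · exact h' hrq
    rw [e] at hdvd
    rcases h.qord _ hdvd with e' | e'
    · exact hne (by rw [hrq, ← e', pow_orderOf_eq_one])
    · have h1 : orderOf ((w * a) ^ r) = 2 := by
        rw [hrq, orderOf_pow' _ h.prime.ne_zero, e', Nat.gcd_mul_left_left, Nat.mul_div_cancel _ h.prime.pos]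
      rw [e] at h1
      exact h.ne_two h1
  · have hco : Nat.Coprime (2 * q) (orderOf a) := by
      rw [hao]
      exact Nat.Coprime.mul_left ((Nat.coprime_primes Nat.prime_two hr).2 (Ne.symm hr2))
        ((Nat.coprime_primes h.prime hr).2 (Ne.symm hrq))
    obtain ⟨j, hj⟩ := exists_pow_eq_self_of_coprime hco
    have haW' : a ∈ W := hj ▸ W.pow_mem haW2 j
    rcases hW with hW | ⟨hW, -⟩
    · exact hrq (hao ▸ h.orderOf_of_mem hW haW' fun e' => by rw [e', orderOf_one] at hao; exact hr.one_lt.ne hao)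
    · have := h.two_sq hW haW'
      have h1 : orderOf a ∣ 2 := orderOf_dvd_of_pow_eq_one (by rw [pow_two]; exact this)
      rw [hao] at h1
      exact hr2 ((Nat.prime_dvd_prime_iff_eq hr Nat.prime_two).1 h1)

/-- The commutators of an abelian two-group with an element of odd prime order centralise an invariant `q`-group. -/
theorem Hyp.centralizes {K E : Subgroup G} {a : G} {r : ℕ} (hr : r.Prime) (hr2 : r ≠ 2) (hao : orderOf a = r)
    (hK : IsPGroup q K) (hE : IsPGroup 2 E) (haK : a ∈ Subgroup.normalizer (K : Set G))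
    (haE : a ∈ Subgroup.normalizer (E : Set G)) (hEK : E ≤ Subgroup.normalizer (K : Set G)) :
    ∀ e ∈ E, e⁻¹ * (a * e * a⁻¹) ∈ Subgroup.centralizer (K : Set G) := by
  haveI := Fact.mk h.prime
  haveI : Fact (Nat.Prime 2) := ⟨Nat.prime_two⟩
  refine commutator_mem_centralizer hr hK ⟨⟨fun x y => Subtype.ext (h.two_comm hE x.2 y.2)⟩⟩ haK haE hEK
    (hao ▸ pow_orderOf_eq_one a) (h.norm_pow hr hr2 hao haK (Or.inl hK)) fun hd => ?_
  obtain ⟨n, hn⟩ := IsPGroup.iff_card.1 hE
  rw [hn] at hd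
  exact h.ne_two ((Nat.prime_dvd_prime_iff_eq h.prime Nat.prime_two).1 (h.prime.dvd_of_dvd_pow hd))

/-- An odd group invariant under two commuting involutions with commuting product is a `q`-group. -/
theorem Hyp.odd_invariant {K : Subgroup G} (hK : Odd (Nat.card K)) {s t : G} (hs : orderOf s = 2)
    (ht : orderOf t = 2) (hst : Commute s t) (hne : s ≠ t) (hsK : s ∈ Subgroup.normalizer (K : Set G))
    (htK : t ∈ Subgroup.normalizer (K : Set G)) : IsPGroup q K := by
  classical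
  haveI := Fact.mk h.prime
  haveI : Fact (Nat.Prime 2) := ⟨Nat.prime_two⟩
  refine IsPGroup.of_card (n := (Nat.card K).primeFactorsList.length)
    (Nat.eq_prime_pow_of_unique_prime_dvd Nat.card_pos.ne' fun {r} hr hd => ?_)
  by_contra hrq
  haveI := Fact.mk hr
  have hr2 : r ≠ 2 := fun e => by
    subst e
    exact Nat.not_even_iff_odd.2 hK (even_iff_two_dvd.2 hd)
  set A := Subgroup.zpowers s ⊔ Subgroup.zpowers t with hA
  have hA2 : IsPGroup 2 A := IsPGroup.to_sup_of_normal_left'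
    (IsPGroup.of_card (n := 1) (by rw [Nat.card_zpowers, hs, pow_one]))
    (IsPGroup.of_card (n := 1) (by rw [Nat.card_zpowers, ht, pow_one]))
    (le_normalizer_of_mem_iff fun x hx k hk => by
      obtain ⟨i, rfl⟩ := Subgroup.mem_zpowers_iff.1 hx
      obtain ⟨j, rfl⟩ := Subgroup.mem_zpowers_iff.1 hk
      rw [((hst.symm.zpow_left i).zpow_right j).eq, mul_inv_cancel_right]
      exact Subgroup.zpow_mem_zpowers s j)
  have hAK : A ≤ Subgroup.normalizer (K : Set G) := sup_le (Subgroup.zpowers_le.2 hsK) (Subgroup.zpowers_le.2 htK)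
  have hco : (Nat.card A).Coprime (Nat.card K) := by
    obtain ⟨n, hn⟩ := IsPGroup.iff_card.1 hA2
    rw [hn]
    exact (Nat.coprime_two_left.2 hK).pow_left n
  haveI := hA2.isNilpotent
  obtain ⟨R, hR, hAR⟩ := Solv.exists_invariant_sylow hAK hco (Or.inl inferInstance) r
  have hRp : IsPGroup r R := hR.isPGroup
  have hRnt : Nontrivial R := by
    rw [← Finite.one_lt_card_iff_nontrivial, hR.2]
    exact Nat.one_lt_pow (Finsupp.mem_support_iff.1
      (Nat.support_factorization _ ▸ Nat.mem_primeFactors.2 ⟨hr, hd, Nat.card_pos.ne'⟩)) hr.one_lt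
  have hRodd : Odd (Nat.card R) := hK.of_dvd_nat (Subgroup.card_dvd_of_le hR.1)
  set s' : Subgroup.normalizer (R : Set G) := ⟨s, hAR ((le_sup_left : Subgroup.zpowers s ≤ A) (Subgroup.mem_zpowers s))⟩
  set t' : Subgroup.normalizer (R : Set G) := ⟨t, hAR ((le_sup_right : Subgroup.zpowers t ≤ A) (Subgroup.mem_zpowers t))⟩
  have hss := (Solv.CITGroups.orderOf_two_iff.1 hs).1
  have htt := (Solv.CITGroups.orderOf_two_iff.1 ht).1
  have hst1 : orderOf (s * t) = 2 := by
    refine Solv.CITGroups.orderOf_two_iff.2 ⟨?_, fun e => hne ?_⟩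
    · calc s * t * (s * t) = s * (t * s) * t := by group
        _ = (s * s) * (t * t) := by rw [← hst.eq]; group
        _ = 1 := by rw [hss, htt, one_mul]
    · rw [eq_inv_of_mul_eq_one_left e, inv_eq_of_mul_eq_one_right htt]
  obtain ⟨γ, hγ, y, hy1, hy⟩ := exists_fixed_four hRodd hRnt (R.normalizerMonoidHom s') (R.normalizerMonoidHom t')
    (by rw [← map_mul, show s' * s' = 1 from Subtype.ext hss, map_one])
    (by rw [← map_mul, show t' * t' = 1 from Subtype.ext htt, map_one])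
  obtain ⟨v, hv, hγv⟩ : ∃ v : Subgroup.normalizer (R : Set G), orderOf (v : G) = 2 ∧ γ = R.normalizerMonoidHom v := by
    rcases hγ with e | e | e
    · exact ⟨s', hs, e⟩
    · exact ⟨t', ht, e⟩
    · exact ⟨s' * t', hst1, by rw [e, map_mul]⟩
  have hc : Commute (v : G) (y : G) := by
    rw [hγv] at hy
    exact mul_inv_eq_iff_eq_mul.1 (congrArg Subtype.val hy)
  obtain ⟨r', i, hr', hr'd, hi⟩ := exists_prime_pow_power (x := (y : G)) fun e => hy1 (Subtype.ext e)
  have hr'r : r' = r := by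
    obtain ⟨m, hm⟩ := IsPGroup.iff_orderOf.1 hRp y
    rw [Subgroup.orderOf_coe, hm] at hr'd
    exact (Nat.prime_dvd_prime_iff_eq hr' hr).1 (hr'.dvd_of_dvd_pow hr'd)
  exact h.no_commute (Or.inl hv) hr hr2 hrq (hr'r ▸ hi) (hc.pow_right i)

/-- The core for `q` of a centraliser. -/
def core (q : ℕ) (X : Subgroup G) : Subgroup G := (Cfsg.pCore q X).map X.subtype

omit [Finite G] h in
theorem core_le {X : Subgroup G} : core q X ≤ X := Subgroup.map_subtype_le _

theorem Hyp.core_isPGroup {X : Subgroup G} : IsPGroup q (core q X) :=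
  haveI := Fact.mk h.prime
  (Solv.pCore_isPGroup q).map _

omit h in
theorem le_normalizer_core {X : Subgroup G} : Subgroup.normalizer (X : Set G) ≤ Subgroup.normalizer (core q X : Set G) := by
  refine le_normalizer_of_mem_iff fun g hg k hk => ?_
  obtain ⟨v, hv, rfl⟩ := hk
  haveI : (Cfsg.pCore q X).Characteristic := Fusion.pCore_characteristic
  refine ⟨X.normalizerMonoidHom ⟨g, hg⟩ v, ?_, rfl⟩
  rw [← Subgroup.characteristic_iff_map_eq.1 (inferInstance : (Cfsg.pCore q X).Characteristic)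
    (X.normalizerMonoidHom ⟨g, hg⟩)]
  exact ⟨v, hv, rfl⟩

omit h in
theorem conj_mem_core {X : Subgroup G} {x k : G} (hx : x ∈ Subgroup.normalizer (X : Set G)) (hk : k ∈ core q X) :
    x * k * x⁻¹ ∈ core q X :=
  (Subgroup.mem_normalizer_iff.1 (le_normalizer_core hx) k).1 hk

/-- The structure of a subgroup involving two primes and containing a Sylow 2-subgroup. -/
theorem Hyp.two_prime_structure {X : Subgroup G} (hX : ∀ r : ℕ, r.Prime → r ∣ Nat.card X → r = 2 ∨ r = q)
    (S : Sylow 2 G) (hSX : (S : Subgroup G) ≤ X) :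
    (∀ K : Subgroup G, K ≤ X → IsPGroup q K → (S : Subgroup G) ≤ Subgroup.normalizer (K : Set G) → K ≤ core q X) ∧
    ∀ x ∈ X, ∃ k ∈ core q X, ∃ g ∈ X, g ∈ Subgroup.normalizer ((S : Subgroup G) : Set G) ∧ x = k * g := by
  classical
  haveI := Fact.mk h.prime
  haveI : Fact (Nat.Prime 2) := ⟨Nat.prime_two⟩
  haveI hsol : Group.IsSolvable X :=
    Char.isSolvable_of_two_primes Nat.prime_two h.prime _ rfl fun r hr hd => hX r hr hd
  set Q := Cfsg.pCore q X with hQ
  haveI : Q.Normal := Solv.pCore_normal q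
  set π := QuotientGroup.mk' Q
  set S' : Sylow 2 X := S.subtype hSX with hS'
  set T := S'.mapSurjective (QuotientGroup.mk'_surjective Q) with hT
  have hTab : ∀ a ∈ (T : Subgroup (X ⧸ Q)), ∀ b ∈ (T : Subgroup (X ⧸ Q)), a * b = b * a := by
    rintro _ ⟨a, ha, rfl⟩ _ ⟨b, hb, rfl⟩
    rw [← map_mul, ← map_mul]
    exact congrArg π (Subtype.ext (h.two_comm S.isPGroup' ha hb))
  haveI : Group.IsSolvable (X ⧸ Q) := inferInstance
  set O := Cfsg.pCore 2 (X ⧸ Q) with hO
  haveI : O.Normal := Solv.pCore_normal 2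
  have hFO : Cfsg.fittingSubgroup (X ⧸ Q) ≤ O := by
    rw [Solv.fitting_eq_iSup_pCore]
    refine iSup_le fun r => ?_
    by_cases hd : (r : ℕ) ∣ Nat.card (X ⧸ Q)
    · rcases hX r r.2 (hd.trans (Subgroup.card_quotient_dvd_card Q)) with e | e
      · rw [e]
      · rw [e, Fusion.pCore_quotient_eq_bot]
        exact bot_le
    · haveI := Fact.mk r.2
      obtain ⟨k, hk⟩ := IsPGroup.iff_card.1 (Solv.pCore_isPGroup (G := X ⧸ Q) (r : ℕ))
      have hk0 : k = 0 := by
        by_contra hk0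
        exact hd ((dvd_pow_self (r : ℕ) hk0).trans (hk ▸ Subgroup.card_subgroup_dvd_card _))
      rw [hk0, pow_zero, Subgroup.card_eq_one] at hk
      rw [hk]
      exact bot_le
  have hOT : O ≤ T := (Solv.pCore_isPGroup 2).le_sylow_of_normal T
  have hself : Subgroup.centralizer (O : Set (X ⧸ Q)) ≤ O :=
    ((Subgroup.centralizer_le hFO).trans (Solv.centralizer_fitting_le inferInstance)).trans hFO
  have hTO : (T : Subgroup (X ⧸ Q)) = O := le_antisymm (fun a ha => hself (Subgroup.mem_centralizer_iff.2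
    fun b hb => hTab b (hOT hb) a ha)) hOT
  refine ⟨fun K hKX hK hSK => ?_, fun x hx => ?_⟩
  · intro k hk
    refine ⟨⟨k, hKX hk⟩, ?_, rfl⟩
    have hc : π ⟨k, hKX hk⟩ ∈ Subgroup.centralizer (O : Set (X ⧸ Q)) := by
      refine Subgroup.mem_centralizer_iff.2 fun b hb => ?_
      obtain ⟨s, hs, rfl⟩ := hTO.ge hb
      set k' : X := ⟨k, hKX hk⟩
      have h1 : π (k' * s * k'⁻¹ * s⁻¹) ∈ O := by
        simp only [map_mul, map_inv]
        exact mul_mem (Subgroup.Normal.conj_mem inferInstance _ hb _) (O.inv_mem hb)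
      have h2 : ((k' * s * k'⁻¹ * s⁻¹ : X) : G) ∈ K := by
        have := mul_mem hk ((Subgroup.mem_normalizer_iff.1 (hSK (show (s : G) ∈ (S : Subgroup G) from hs)) _).1 (K.inv_mem hk))
        simpa [mul_assoc] using this
      obtain ⟨i, hi⟩ := IsPGroup.iff_orderOf.1 hK ⟨_, h2⟩
      obtain ⟨j, hj⟩ := IsPGroup.iff_orderOf.1 (Solv.pCore_isPGroup (G := X ⧸ Q) 2) ⟨_, h1⟩
      rw [Subgroup.orderOf_mk, Subgroup.orderOf_coe] at hi
      rw [Subgroup.orderOf_mk] at hj
      have h3 : π (k' * s * k'⁻¹ * s⁻¹) = 1 := orderOf_eq_one_iff.1 (Nat.eq_one_of_dvd_coprimes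
        (Nat.Coprime.pow j i ((Nat.coprime_primes Nat.prime_two h.prime).2 h.ne_two.symm)) hj.dvd
        (hi ▸ orderOf_map_dvd π _))
      simp only [map_mul, map_inv] at h3
      exact (mul_inv_eq_iff_eq_mul.1 (mul_inv_eq_one.1 h3)).symm
    obtain ⟨j, hj⟩ := IsPGroup.iff_orderOf.1 (Solv.pCore_isPGroup (G := X ⧸ Q) 2) ⟨_, hself hc⟩
    obtain ⟨i, hi⟩ := IsPGroup.iff_orderOf.1 hK ⟨k, hk⟩
    rw [Subgroup.orderOf_mk] at hi hj
    refine (QuotientGroup.eq_one_iff _).1 (orderOf_eq_one_iff.1 (Nat.eq_one_of_dvd_coprimes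
      (Nat.Coprime.pow j i ((Nat.coprime_primes Nat.prime_two h.prime).2 h.ne_two.symm)) hj.dvd ?_))
    exact (orderOf_map_dvd π _).trans (by rw [← Subgroup.orderOf_coe]; exact hi.dvd)
  · haveI : ((T : Subgroup (X ⧸ Q)).comap π).Normal := by rw [hTO]; infer_instance
    set P := (T : Subgroup (X ⧸ Q)).comap π with hP
    have hS'P : (S' : Subgroup X) ≤ P := fun s hs => ⟨s, hs, rfl⟩
    have hfr := Sylow.normalizer_sup_eq_top (S'.subtype hS'P)
    rw [Sylow.coe_subtype, Subgroup.map_subgroupOf_eq_of_le hS'P] at hfr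
    have hPQ : P ≤ (S' : Subgroup X) ⊔ Q := by
      rw [hP, hT, Sylow.coe_mapSurjective, Subgroup.comap_map_eq, QuotientGroup.ker_mk']
    have htop : Subgroup.normalizer ((S' : Subgroup X) : Set X) ⊔ Q = ⊤ := top_le_iff.1 (by
      rw [← hfr]
      exact sup_le le_sup_left (hPQ.trans (sup_le (Subgroup.le_normalizer.trans le_sup_left) le_sup_right)))
    have hm : (⟨x, hx⟩ : X) ∈ (↑(Q ⊔ Subgroup.normalizer ((S' : Subgroup X) : Set X)) : Set X) := by
      rw [sup_comm, htop]; trivial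
    rw [Subgroup.normal_mul] at hm
    obtain ⟨k, hk, g, hg, e⟩ := Set.mem_mul.1 hm
    refine ⟨k, ⟨k, hk, rfl⟩, g, g.2, mem_normalizer_of_forall fun s hs => ?_, congrArg Subtype.val e.symm⟩
    exact (Subgroup.mem_normalizer_iff.1 hg ⟨s, hSX hs⟩).1 hs

end Cfsg.Agent.Lie.TwoQ
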