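import Cfsg.Agent.Lib.Lie.TwoQ.Basic
import Cfsg.Agent.Lib.Small.SmallOrders
import Cfsg.Agent.Lib.Char.BSW.DihedralWall
import Cfsg.Agent.S3278

/-!
# The case of Sylow 2-subgroups of order four
-/

set_option autoImplicit false
set_option linter.unusedSectionVars false
set_option linter.style.haveILetI false

namespace Cfsg.Agent.Lie.TwoQ

open Cfsg

universe u

variable {G : Type u} [Group G] [Finite G] {q : ℕ}

/-- An element is the product of commuting powers of two-power and of odd order. -/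
theorem exists_split (x : G) : ∃ u w : G, x = u * w ∧ Commute u w ∧ (∃ k, orderOf u = 2 ^ k) ∧ Odd (orderOf w) ∧
    u ∈ Subgroup.zpowers x ∧ w ∈ Subgroup.zpowers x := by
  obtain ⟨k, m, hm, hn⟩ := Nat.exists_eq_two_pow_mul_odd (orderOf_pos x).ne'
  have hco : IsCoprime ((2 ^ k : ℕ) : ℤ) (m : ℤ) :=
    Nat.isCoprime_iff_coprime.2 ((Nat.coprime_two_left.2 hm).pow_left k)
  obtain ⟨a, b, hab⟩ := hco
  have hx : x ^ ((2 ^ k * m : ℕ) : ℤ) = 1 := by rw [zpow_natCast, ← hn, pow_orderOf_eq_one]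
  refine ⟨x ^ (b * (m : ℤ)), x ^ (a * ((2 ^ k : ℕ) : ℤ)), ?_, (Commute.refl x).zpow_zpow _ _, ?_, ?_,
    Subgroup.zpow_mem_zpowers _ _, Subgroup.zpow_mem_zpowers _ _⟩
  · rw [← zpow_add, add_comm, hab, zpow_one]
  · obtain ⟨j, -, hj⟩ := (Nat.dvd_prime_pow Nat.prime_two).1 (orderOf_dvd_of_pow_eq_one
      (x := x ^ (b * (m : ℤ))) (n := 2 ^ k) (by
        rw [← zpow_natCast, ← zpow_mul, show b * (m : ℤ) * ((2 ^ k : ℕ) : ℤ) = ((2 ^ k * m : ℕ) : ℤ) * b by push_cast; ring,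
          zpow_mul, hx, one_zpow]))
    exact ⟨j, hj⟩
  · exact hm.of_dvd_nat (orderOf_dvd_of_pow_eq_one (by
      rw [← zpow_natCast, ← zpow_mul, show a * ((2 ^ k : ℕ) : ℤ) * (m : ℤ) = ((2 ^ k * m : ℕ) : ℤ) * a by push_cast; ring,
        zpow_mul, hx, one_zpow]))

theorem mem_of_sq_mem {K : Subgroup G} {x : G} (hx : Odd (orderOf x)) (h : x ^ 2 ∈ K) : x ∈ K := by
  obtain ⟨j, hj⟩ := exists_pow_eq_self_of_coprime (Nat.coprime_two_left.2 hx)
  exact hj ▸ K.pow_mem h j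

/-- A two-element normalising a Sylow subgroup lies in it. -/
theorem mem_sylow_of_normalizer (S : Sylow 2 G) {u : G} (hu : u ∈ Subgroup.normalizer ((S : Subgroup G) : Set G))
    {k : ℕ} (hk : orderOf u = 2 ^ k) : u ∈ (S : Subgroup G) := by
  haveI : Fact (Nat.Prime 2) := ⟨Nat.prime_two⟩
  have hp : IsPGroup 2 ((S : Subgroup G) ⊔ Subgroup.zpowers u : Subgroup G) :=
    IsPGroup.to_sup_of_normal_left' S.isPGroup' (IsPGroup.of_card (n := k) (by rw [Nat.card_zpowers, hk]))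
      (Subgroup.zpowers_le.2 hu)
  exact (S.is_maximal' hp le_sup_left).le ((le_sup_right : Subgroup.zpowers u ≤ _) (Subgroup.mem_zpowers u))

variable (h : Hyp G q)
include h

theorem Hyp.isPGroup_of_odd {X K : Subgroup G} (hX : ∀ r : ℕ, r.Prime → r ∣ Nat.card X → r = 2 ∨ r = q)
    (hKX : K ≤ X) (hK : Odd (Nat.card K)) : IsPGroup q K :=
  haveI := Fact.mk h.prime
  IsPGroup.of_card (n := (Nat.card K).primeFactorsList.length)
    (Nat.eq_prime_pow_of_unique_prime_dvd Nat.card_pos.ne' fun {r} hr hd =>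
      (hX r hr (hd.trans (Subgroup.card_dvd_of_le hKX))).resolve_left fun e => by
        subst e
        exact Nat.not_even_iff_odd.2 hK (even_iff_two_dvd.2 hd))

/-- The product description of a `{2,q}`-group whose elements of two-power order in a given set are known. -/
theorem Hyp.mem_core_of_mul {X : Subgroup G} {k v x : G} (hk : k ∈ core q X) (hv : v ∈ X) (hv2 : v * v = 1)
    (hx : Odd (orderOf x)) (e : x = k * v) : x ∈ core q X := by
  refine mem_of_sq_mem hx ?_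
  have h1 : v * k * v⁻¹ ∈ core q X := conj_mem_core (Subgroup.le_normalizer hv) hk
  rw [inv_eq_of_mul_eq_one_left hv2] at h1
  rw [pow_two, e, show k * v * (k * v) = k * (v * k * v) by group]
  exact mul_mem hk h1

section Klein

variable (S : Sylow 2 G) (h4 : Nat.card (S : Subgroup G) = 4)
include h4

theorem Hyp.four_cases {a b x : G} (ha : a ∈ (S : Subgroup G)) (hb : b ∈ (S : Subgroup G)) (ha1 : a ≠ 1) (hb1 : b ≠ 1)
    (hab : a ≠ b) (hx : x ∈ (S : Subgroup G)) : x = 1 ∨ x = a ∨ x = b ∨ x = a * b := by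
  have h3 : a * b ≠ 1 := fun e => hab (by
    rw [eq_inv_of_mul_eq_one_left e, inv_eq_of_mul_eq_one_left (h.two_sq S.isPGroup' hb)])
  let f : Fin 4 → (S : Subgroup G) := ![1, ⟨a, ha⟩, ⟨b, hb⟩, ⟨a * b, mul_mem ha hb⟩]
  have hf : Function.Injective f := by
    intro i j e
    fin_cases i <;> fin_cases j <;>
      first | rfl | (simp [f, Subtype.ext_iff, ha1, hb1, h3, hab, ha1.symm, hb1.symm, h3.symm, hab.symm] at e)
  obtain ⟨i, hi⟩ := (hf.bijective_of_nat_card_le (by rw [h4, Nat.card_fin])).2 ⟨x, hx⟩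
  have e' := congrArg Subtype.val hi
  fin_cases i <;> simp [f] at e' <;> simp [← e']

/-- An element normalising a Sylow subgroup of order four centralises it or yields an element of order three
acting without fixed points. -/
theorem Hyp.mover {n : G} (hn : n ∈ Subgroup.normalizer ((S : Subgroup G) : Set G))
    (hnc : n ∉ Subgroup.centralizer ((S : Subgroup G) : Set G)) :
    ∃ ρ ∈ Subgroup.zpowers n, orderOf ρ = 3 ∧ ∀ v ∈ (S : Subgroup G), v ≠ 1 → ρ * v * ρ⁻¹ ≠ v := by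
  obtain ⟨u, w, e, -, ⟨k, hk⟩, hw, hu', hw'⟩ := exists_split n
  have hzn : Subgroup.zpowers n ≤ Subgroup.normalizer ((S : Subgroup G) : Set G) := Subgroup.zpowers_le.2 hn
  have hu : u ∈ (S : Subgroup G) := mem_sylow_of_normalizer S (hzn hu') hk
  obtain ⟨v0, hv0, hmove⟩ : ∃ v0 ∈ (S : Subgroup G), w * v0 * w⁻¹ ≠ v0 := by
    by_contra hno
    push Not at hno
    refine hnc (e ▸ mul_mem (Subgroup.mem_centralizer_iff.2 fun v hv => (h.two_comm S.isPGroup' hv hu))
      (Subgroup.mem_centralizer_iff.2 fun v hv => ?_))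
    exact (mul_inv_eq_iff_eq_mul.1 (hno v hv)).symm
  have hv01 : v0 ≠ 1 := fun e => hmove (by rw [e]; group)
  have hcj : ∀ v ∈ (S : Subgroup G), w * v * w⁻¹ ∈ (S : Subgroup G) := fun v hv =>
    (Subgroup.mem_normalizer_iff.1 (hzn hw') v).1 hv
  set v1 := w * v0 * w⁻¹ with hv1
  have hv1S : v1 ∈ (S : Subgroup G) := hcj v0 hv0
  have hv11 : v1 ≠ 1 := fun e => hv01 (conj_eq_one_iff.1 e)
  have hodd2 : ∀ v, w * (w * v * w⁻¹) * w⁻¹ = v → w * v * w⁻¹ = v := fun v e => by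
    have h1 : w ^ 2 ∈ Subgroup.centralizer ({v} : Set G) :=
      memC (mul_inv_eq_iff_eq_mul.1 (show w ^ 2 * v * (w ^ 2)⁻¹ = v by rw [pow_two]; simpa [mul_assoc] using e))
    exact mul_inv_eq_iff_eq_mul.2 (commute_of_memC (mem_of_sq_mem hw h1)).eq
  have hv2 : w * v1 * w⁻¹ = v0 * v1 := by
    rcases h.four_cases S h4 hv0 hv1S hv01 hv11 (fun e => hmove e.symm) (hcj v1 hv1S) with e' | e' | e' | e'
    · exact absurd (conj_eq_one_iff.1 e') hv11
    · exact absurd (hodd2 v0 e') hmove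
    · exact absurd ((MulAut.conj w).injective (show w * v1 * w⁻¹ = w * v0 * w⁻¹ from e')) hmove
    · exact e'
  have hv3 : w * (v0 * v1) * w⁻¹ = v0 := by
    rw [show w * (v0 * v1) * w⁻¹ = (w * v0 * w⁻¹) * (w * v1 * w⁻¹) by group, hv2, ← hv1,
      h.two_comm S.isPGroup' hv0 hv1S, ← mul_assoc, h.two_sq S.isPGroup' hv1S, one_mul]
  refine ⟨w, hw', ?_, fun v hv hv1' => ?_⟩
  swap
  · rcases h.four_cases S h4 hv0 hv1S hv01 hv11 (fun e => hmove e.symm) hv with rfl | rfl | rfl | rfl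
    · exact absurd rfl hv1'
    · exact hmove
    · rw [hv2]; exact fun e => hv01 (mul_eq_right.1 e)
    · rw [hv3]; exact fun e => hv11 (left_eq_mul.1 e)
  have hw3 : Commute (w ^ 3) v0 := mul_inv_eq_iff_eq_mul.1 (by
    rw [show w ^ 3 * v0 * (w ^ 3)⁻¹ = w * (w * (w * v0 * w⁻¹) * w⁻¹) * w⁻¹ by
      simp [pow_succ, mul_assoc, mul_inv_rev], ← hv1, hv2, hv3])
  have hmv : ∀ j : ℕ, (w ^ 3) ^ j ≠ w := fun j e' => hmove (mul_inv_eq_iff_eq_mul.2 (e' ▸ hw3.pow_left j).eq)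
  have h3d : 3 ∣ orderOf w := by
    by_contra h3
    obtain ⟨j, hj⟩ := exists_pow_eq_self_of_coprime ((Nat.prime_three.coprime_iff_not_dvd).2 h3)
    exact hmv j hj
  have h31 : w ^ 3 = 1 := by
    by_contra hne
    obtain ⟨r, i, hr, hrd, hi⟩ := exists_prime_pow_power hne
    have hrw : r ∣ orderOf w := hrd.trans (orderOf_pow_dvd 3)
    have hr2 : r ≠ 2 := fun e' => Nat.not_even_iff_odd.2 hw (even_iff_two_dvd.2 (e' ▸ hrw))
    have hrq : r = q := by
      by_contra hrq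
      exact h.no_commute (Or.inl (Solv.CITGroups.orderOf_two_iff.2 ⟨h.two_sq S.isPGroup' hv0, hv01⟩))
        hr hr2 hrq hi (hw3.pow_left i).symm
    rcases h.qord w (hrq ▸ hrw) with e' | e'
    · rw [e'] at h3d
      exact hne (by rw [(Nat.prime_dvd_prime_iff_eq Nat.prime_three h.prime).1 h3d, ← e', pow_orderOf_eq_one])
    · exact Nat.not_even_iff_odd.2 hw (e' ▸ even_two_mul q)
  haveI : Fact (Nat.Prime 3) := ⟨Nat.prime_three⟩
  exact orderOf_eq_prime h31 fun e => hmove (by rw [hv1, e]; group)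

/-- A `q`-group invariant under the four-group and an element moving it is centralised by it. -/
theorem Hyp.four_centralizes {K : Subgroup G} (hK : IsPGroup q K) {ρ : G} (hρ : orderOf ρ = 3)
    (hρS : ρ ∈ Subgroup.normalizer ((S : Subgroup G) : Set G)) (hρK : ρ ∈ Subgroup.normalizer (K : Set G))
    (hfix : ∀ v ∈ (S : Subgroup G), v ≠ 1 → ρ * v * ρ⁻¹ ≠ v)
    (hSK : (S : Subgroup G) ≤ Subgroup.normalizer (K : Set G)) :
    (S : Subgroup G) ≤ Subgroup.centralizer (K : Set G) := by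
  intro v hv
  by_cases hv1 : v = 1
  · subst hv1; exact one_mem _
  have key := h.centralizes Nat.prime_three (by norm_num) hρ hK S.isPGroup' hρK hρS hSK (ρ * v * ρ⁻¹)
    ((Subgroup.mem_normalizer_iff.1 hρS v).1 hv)
  set v1 := ρ * v * ρ⁻¹ with hv1'
  set v2 := ρ * v1 * ρ⁻¹ with hv2'
  have h1 : v1 ∈ (S : Subgroup G) := (Subgroup.mem_normalizer_iff.1 hρS v).1 hv
  have h2 : v2 ∈ (S : Subgroup G) := (Subgroup.mem_normalizer_iff.1 hρS _).1 h1
  have h11 : v1 ≠ 1 := fun e => hv1 (conj_eq_one_iff.1 e)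
  have h21 : v2 ≠ 1 := fun e => h11 (conj_eq_one_iff.1 e)
  have h12 : v1 ≠ v2 := fun e => hfix v1 h1 h11 e.symm
  have h02 : v ≠ v2 := fun e => by
    refine hfix v hv hv1 ?_
    have h3 : ρ * v2 * ρ⁻¹ = v := by
      rw [hv2', hv1', show ρ * (ρ * (ρ * v * ρ⁻¹) * ρ⁻¹) * ρ⁻¹ = ρ ^ 3 * v * (ρ ^ 3)⁻¹ by
        simp [pow_succ, mul_assoc, mul_inv_rev], ← hρ,
        pow_orderOf_eq_one]
      group
    rwa [← e] at h3
  rcases h.four_cases S h4 hv h1 hv1 h11 (fun e => hfix v hv hv1 e.symm) h2 with e | e | e | e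
  · exact absurd e h21
  · exact absurd e.symm h02
  · exact absurd e.symm h12
  · rwa [inv_eq_of_mul_eq_one_left (h.two_sq S.isPGroup' h1), e, h.two_comm S.isPGroup' hv h1, ← mul_assoc,
      h.two_sq S.isPGroup' h1, one_mul] at key

end Klein

end Cfsg.Agent.Lie.TwoQ
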