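import Cfsg.Agent.Lib.Lie.TwoQ.Four

/-!
# Simple groups with Sylow 2-subgroups of order four in the two-prime setting
-/

set_option autoImplicit false
set_option linter.unusedSectionVars false
set_option linter.style.haveILetI false
set_option maxHeartbeats 4000000

namespace Cfsg.Agent.Lie.TwoQ

open Cfsg

universe u

variable {G : Type u} [Group G] [Finite G] {q : ℕ}

theorem inverts_of_fpf {K : Subgroup G} {s : G} (hs : s * s = 1) (hsK : s ∈ Subgroup.normalizer (K : Set G))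
    (hfix : ∀ y ∈ K, Commute s y → y = 1) : ∀ y ∈ K, s * y * s⁻¹ = y⁻¹ := by
  intro y hy
  set φ := K.normalizerMonoidHom ⟨s, hsK⟩
  have hφ : MonoidHom.FixedPointFree φ.toMonoidHom := fun z hz =>
    Subtype.ext (hfix z z.2 (mul_inv_eq_iff_eq_mul.1 (congrArg Subtype.val hz)))
  have h2 : Function.Involutive φ.toMonoidHom := fun z => Subtype.ext (by
    show s * (s * (z : G) * s⁻¹) * s⁻¹ = z
    rw [show s * (s * (z : G) * s⁻¹) * s⁻¹ = (s * s) * z * (s * s)⁻¹ by group, hs]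
    group)
  exact congrArg Subtype.val (congrFun (hφ.coe_eq_inv_of_involutive h2) ⟨y, hy⟩)

theorem exists_mem_normalizer {p : ℕ} [Fact p.Prime] {K D : Subgroup G} (hK : IsPGroup p K) (hDK : D ≤ K)
    (hne : D ≠ K) : ∃ x ∈ K, x ∈ Subgroup.normalizer (D : Set G) ∧ x ∉ D := by
  haveI := hK.isNilpotent
  have hlt : D.subgroupOf K < ⊤ := lt_top_iff_ne_top.2 fun e => hne (le_antisymm hDK (Subgroup.subgroupOf_eq_top.1 e))
  obtain ⟨x, hx, hxD⟩ := SetLike.exists_of_lt (normalizerCondition_of_isNilpotent _ hlt)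
  exact ⟨x, x.2, mem_normalizer_of_forall fun d hd => (Subgroup.mem_normalizer_iff.1 hx ⟨d, hDK hd⟩).1 hd, hxD⟩

theorem normalizer_le_normalizer_centralizer {K : Subgroup G} :
    Subgroup.normalizer (K : Set G) ≤ Subgroup.normalizer (Subgroup.centralizer (K : Set G) : Set G) := by
  refine le_normalizer_of_mem_iff fun a ha c hc => Subgroup.mem_centralizer_iff.2 fun k hk => ?_
  have hk' : a⁻¹ * k * a ∈ K := by
    simpa using (Subgroup.mem_normalizer_iff.1 (inv_mem ha) k).1 hk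
  calc k * (a * c * a⁻¹) = a * (a⁻¹ * k * a * c) * a⁻¹ := by group
    _ = a * (c * (a⁻¹ * k * a)) * a⁻¹ := by rw [Subgroup.mem_centralizer_iff.1 hc _ hk']
    _ = a * c * a⁻¹ * k := by group

theorem exists_odd_complement (S : Sylow 2 G) {X : Subgroup G} (hSX : (S : Subgroup G) ≤ X)
    (hNC : ∀ n ∈ X, n ∈ Subgroup.normalizer ((S : Subgroup G) : Set G) →
      n ∈ Subgroup.centralizer ((S : Subgroup G) : Set G)) :
    ∃ Y : Subgroup G, Odd (Nat.card Y) ∧ X ≤ Subgroup.normalizer (Y : Set G) ∧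
      (∀ x ∈ X, Odd (orderOf x) → x ∈ Y) ∧ ∀ x ∈ X, ∃ y ∈ Y, ∃ v ∈ (S : Subgroup G), x = y * v := by
  haveI : Fact (Nat.Prime 2) := ⟨Nat.prime_two⟩
  have hle : Subgroup.normalizer ((S.subtype hSX : Subgroup X) : Set X) ≤
      Subgroup.centralizer ((S.subtype hSX : Subgroup X) : Set X) := by
    intro n hn
    have hnc := hNC n n.2 (mem_normalizer_of_forall fun v hv =>
      (Subgroup.mem_normalizer_iff.1 hn ⟨v, hSX hv⟩).1 hv)
    exact Subgroup.mem_centralizer_iff.2 fun v hv => Subtype.ext (Subgroup.mem_centralizer_iff.1 hnc v hv)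
  obtain ⟨K, hKn, hc⟩ : ∃ K : Subgroup X, K.Normal ∧ K.IsComplement' (S.subtype hSX : Subgroup X) :=
    ⟨_, inferInstance, MonoidHom.ker_transferSylow_isComplement' _ hle⟩
  refine ⟨K.map X.subtype, ?_, le_normalizer_of_mem_iff ?_, fun x hx hxo => ⟨⟨x, hx⟩, ?_, rfl⟩, fun x hx => ?_⟩
  · rw [Subgroup.card_map_of_injective X.subtype_injective, ← hc.index_eq_card, ← Nat.not_even_iff_odd,
      even_iff_two_dvd]
    exact (S.subtype hSX).not_dvd_index
  · rintro a ha _ ⟨y, hy, rfl⟩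
    exact ⟨⟨a, ha⟩ * y * ⟨a, ha⟩⁻¹, hKn.conj_mem y hy _, rfl⟩
  · haveI := hKn
    refine (QuotientGroup.eq_one_iff _).1 (orderOf_eq_one_iff.1 ?_)
    obtain ⟨j, hj⟩ := IsPGroup.iff_card.1 (S.subtype hSX).isPGroup'
    refine Nat.eq_one_of_dvd_coprimes ((Nat.coprime_two_left.2 hxo).pow_left j) ?_
      ((orderOf_map_dvd (QuotientGroup.mk' K) _).trans (by rw [Subgroup.orderOf_mk]))
    rw [← hj, ← hc.symm.index_eq_card, Subgroup.index_eq_card]
    exact orderOf_dvd_natCard _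
  · obtain ⟨⟨y, v⟩, e⟩ := hc.2 ⟨x, hx⟩
    exact ⟨_, ⟨y, y.2, rfl⟩, (v : X), v.2, congrArg Subtype.val e.symm⟩

variable (h : Hyp G q)
include h

theorem Hyp.klein_psl [IsSimpleGroup G] (hna : ∃ a b : G, a * b ≠ b * a) (S : Sylow 2 G)
    (h4 : Nat.card (S : Subgroup G) = 4) :
    ∃ (F : Type) (_ : Field F) (_ : Fintype F), Odd (Fintype.card F) ∧
      Nonempty (G ≃* Matrix.ProjectiveSpecialLinearGroup (Fin 2) F) := by
  classical
  haveI := Fintype.ofFinite G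
  haveI := Fact.mk h.prime
  haveI : Fact (Nat.Prime 2) := ⟨Nat.prime_two⟩
  set V : Subgroup G := (S : Subgroup G) with hV
  have hsq : ∀ x ∈ V, x * x = 1 := fun x hx => h.two_sq S.isPGroup' hx
  have hab : ∀ x ∈ V, ∀ y ∈ V, x * y = y * x := fun x hx y hy => h.two_comm S.isPGroup' hx hy
  have ho2 : ∀ x ∈ V, x ≠ 1 → orderOf x = 2 := fun x hx hx1 =>
    Solv.CITGroups.orderOf_two_iff.2 ⟨hsq x hx, hx1⟩
  haveI : Nontrivial V := Finite.one_lt_card_iff_nontrivial.1 (by rw [h4]; norm_num)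
  haveI hKF : IsKleinFour V := ⟨h4, (Monoid.exponent_eq_prime_iff Nat.prime_two).2
    fun g hg => Solv.CITGroups.orderOf_two_iff.2 ⟨Subtype.ext (hsq g g.2), hg⟩⟩
  have hqodd : Odd q := h.prime.odd_of_ne_two h.ne_two
  have hKodd : ∀ {K : Subgroup G}, IsPGroup q K → Odd (Nat.card K) := fun hK => by
    obtain ⟨j, hj⟩ := IsPGroup.iff_card.1 hK
    exact hj ▸ hqodd.pow
  have hVK : ∀ {K : Subgroup G}, IsPGroup q K → ∀ x ∈ V, x ∈ K → x = 1 := fun hK x hx hxK => by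
    by_contra hx1
    exact h.ne_two ((h.orderOf_of_mem hK hxK hx1).symm.trans (ho2 x hx hx1))
  have hxodd : ∀ {K : Subgroup G} {x : G}, Odd (Nat.card K) → x ∈ K → Odd (orderOf x) := fun hK hx =>
    hK.of_dvd_nat (Subgroup.orderOf_dvd_natCard _ hx)
  have hVne : Nat.card V < Nat.card G := by
    refine lt_of_le_of_ne (Nat.le_of_dvd Nat.card_pos (Subgroup.card_subgroup_dvd_card V)) fun e => ?_
    have := Subgroup.eq_top_of_card_eq V e
    obtain ⟨a, b, hne⟩ := hna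
    exact hne (hab a (this ▸ Subgroup.mem_top a) b (this ▸ Subgroup.mem_top b))
  -- an element of order three on the four-group
  obtain ⟨ρ, hρN, hρ3, hρfix⟩ : ∃ ρ ∈ Subgroup.normalizer (V : Set G), orderOf ρ = 3 ∧
      ∀ v ∈ V, v ≠ 1 → ρ * v * ρ⁻¹ ≠ v := by
    obtain ⟨n, hn, hnc⟩ := SetLike.not_le_iff_exists.1
      (fun hle => Small.SmallOrders.false_of_central S (by rw [h4]; norm_num) hVne hle)
    obtain ⟨w, hw, h3, hf⟩ := h.mover S h4 hn hnc
    exact ⟨w, Subgroup.zpowers_le.2 hn hw, h3, hf⟩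
  have hρmem : ∀ v ∈ V, ρ * v * ρ⁻¹ ∈ V := fun v hv => (Subgroup.mem_normalizer_iff.1 hρN v).1 hv
  have horbit : ∀ a ∈ V, a ≠ 1 → ∀ x ∈ V, x ≠ 1 → x = a ∨ x = ρ * a * ρ⁻¹ ∨ x = ρ⁻¹ * a * ρ := by
    intro a ha ha1 x hx hx1
    have hb1 : ρ * a * ρ⁻¹ ≠ 1 := fun e => ha1 (conj_eq_one_iff.1 e)
    have hc : ρ⁻¹ * a * ρ ∈ V := (Subgroup.mem_normalizer_iff.1 hρN _).2 (by simpa [mul_assoc] using ha)
    rcases h.four_cases S h4 ha (hρmem a ha) ha1 hb1 (fun e => hρfix a ha ha1 e.symm) hx with e | e | e | e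
    · exact absurd e hx1
    · exact Or.inl e
    · exact Or.inr (Or.inl e)
    · refine Or.inr (Or.inr (e.trans ?_))
      rcases h.four_cases S h4 ha (hρmem a ha) ha1 hb1 (fun e => hρfix a ha ha1 e.symm) hc with e' | e' | e' | e'
      · exact absurd (conj_eq_one_iff.1 (show ρ⁻¹ * a * ρ⁻¹⁻¹ = 1 by rwa [inv_inv])) ha1
      · refine absurd ?_ (hρfix a ha ha1)
        calc ρ * a * ρ⁻¹ = ρ * (ρ⁻¹ * a * ρ) * ρ⁻¹ := by rw [e']
          _ = a := by group
      · exfalso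
        have h2 : Commute (ρ ^ 2) a := mul_inv_eq_iff_eq_mul.1 (by
          calc ρ ^ 2 * a * (ρ ^ 2)⁻¹ = ρ * (ρ * a * ρ⁻¹) * ρ⁻¹ := by simp [pow_succ, mul_assoc]
            _ = a := by rw [← e']; group)
        exact hρfix a ha ha1 (mul_inv_eq_iff_eq_mul.2 (commute_of_memC
          (mem_of_sq_mem (by rw [hρ3]; decide) (memC h2))).eq)
      · exact e'.symm
  have hconj : ∀ a b : G, orderOf a = 2 → orderOf b = 2 → ∃ g, g * a * g⁻¹ = b := by
    have hinto : ∀ a : G, orderOf a = 2 → ∃ g, g * a * g⁻¹ ∈ V := by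
      intro a ha
      obtain ⟨T, hT⟩ := (IsPGroup.of_card (n := 1) (by rw [Nat.card_zpowers, ha, pow_one]) :
        IsPGroup 2 (Subgroup.zpowers a)).exists_le_sylow
      obtain ⟨g, hg⟩ := MulAction.exists_smul_eq G T S
      refine ⟨g, ?_⟩
      rw [hV, ← hg]
      exact ⟨a, hT (Subgroup.mem_zpowers a), rfl⟩
    intro a b ha hb
    obtain ⟨g, hg⟩ := hinto a ha
    obtain ⟨k, hk⟩ := hinto b hb
    have h1 : ∀ (c x : G), orderOf x = 2 → c * x * c⁻¹ ≠ 1 := fun c x hx e => by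
      rw [conj_eq_one_iff.1 e, orderOf_one] at hx; omega
    rcases horbit _ hg (h1 g a ha) _ hk (h1 k b hb) with e | e | e
    · exact ⟨k⁻¹ * g, by rw [show k⁻¹ * g * a * (k⁻¹ * g)⁻¹ = k⁻¹ * (g * a * g⁻¹) * k by group, ← e]; group⟩
    · exact ⟨k⁻¹ * (ρ * g), by
        rw [show k⁻¹ * (ρ * g) * a * (k⁻¹ * (ρ * g))⁻¹ = k⁻¹ * (ρ * (g * a * g⁻¹) * ρ⁻¹) * k by group, ← e]; group⟩
    · exact ⟨k⁻¹ * (ρ⁻¹ * g), by
        rw [show k⁻¹ * (ρ⁻¹ * g) * a * (k⁻¹ * (ρ⁻¹ * g))⁻¹ = k⁻¹ * (ρ⁻¹ * (g * a * g⁻¹) * ρ) * k by group, ← e]; group⟩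
  obtain ⟨t₀, ht₀V, ht₀1⟩ : ∃ t ∈ V, t ≠ 1 := Subgroup.ne_bot_iff_exists_ne_one.1
    (fun e : V = ⊥ => by rw [e, Subgroup.card_bot] at h4; omega) |>.elim fun x hx => ⟨x, x.2, fun e => hx (Subtype.ext e)⟩
  -- the centralisers
  set C := Subgroup.centralizer (V : Set G) with hC
  have hVC : V ≤ C := fun x hx => Subgroup.mem_centralizer_iff.2 fun y hy => hab y hy x hx
  have hCN : C ≤ Subgroup.normalizer (V : Set G) := fun x hx => mem_normalizer_of_forall fun v hv => by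
    rwa [← Subgroup.mem_centralizer_iff.1 hx v hv, mul_inv_cancel_right]
  have hVt : ∀ t ∈ V, V ≤ Subgroup.centralizer ({t} : Set G) := fun t ht x hx => memC (hab x hx t ht)
  have hfixC : ∀ g ∈ Subgroup.normalizer (V : Set G), ∀ t ∈ V, t ≠ 1 → Commute g t → g ∈ C := by
    intro g hg t ht ht1 hc
    by_contra hgc
    obtain ⟨w, hw, -, hf⟩ := h.mover S h4 hg hgc
    obtain ⟨j, rfl⟩ := Subgroup.mem_zpowers_iff.1 hw
    exact hf t ht ht1 (mul_inv_eq_iff_eq_mul.2 (hc.zpow_left j).eq)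
  have hCt : ∀ t ∈ V, C ≤ Subgroup.centralizer ({t} : Set G) := fun t ht x hx =>
    memC (Subgroup.mem_centralizer_iff.1 hx t ht).symm
  have hprC : ∀ r : ℕ, r.Prime → r ∣ Nat.card C → r = 2 ∨ r = q := fun r hr hd =>
    h.cent_primes (Or.inl (ho2 t₀ ht₀V ht₀1)) hr (hd.trans (Subgroup.card_dvd_of_le (hCt t₀ ht₀V)))
  set P := core q C with hP
  have hPC : P ≤ C := core_le
  have hPq : IsPGroup q P := h.core_isPGroup
  have hoddC : ∀ x ∈ C, Odd (orderOf x) → x ∈ P := by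
    intro x hx hxo
    have hle : Subgroup.zpowers x ≤ C := Subgroup.zpowers_le.2 hx
    refine (h.two_prime_structure hprC S hVC).1 _ hle
      (h.isPGroup_of_odd hprC hle (by rwa [Nat.card_zpowers])) (fun v hv => mem_normalizer_of_forall fun y hy => ?_)
      (Subgroup.mem_zpowers x)
    rwa [Subgroup.mem_centralizer_iff.1 (hle hy) v hv, mul_inv_cancel_right]
  have hsplitC : ∀ x ∈ C, ∃ u w, u ∈ V ∧ w ∈ P ∧ x = w * u := by
    intro x hx
    obtain ⟨u, w, e, hc, ⟨j, hj⟩, hw, hu', hw'⟩ := exists_split x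
    exact ⟨u, w, mem_sylow_of_normalizer S (hCN (Subgroup.zpowers_le.2 hx hu')) hj,
      hoddC w (Subgroup.zpowers_le.2 hx hw') hw, e.trans hc.eq⟩
  let Q : G → Subgroup G := fun t => core q (Subgroup.centralizer ({t} : Set G))
  have hQq : ∀ t, IsPGroup q (Q t) := fun t => h.core_isPGroup
  have hQle : ∀ t, Q t ≤ Subgroup.centralizer ({t} : Set G) := fun t => core_le
  have hVQ : ∀ t ∈ V, V ≤ Subgroup.normalizer (Q t : Set G) := fun t ht =>
    (hVt t ht).trans (Subgroup.le_normalizer.trans le_normalizer_core)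
  have hQmax : ∀ t ∈ V, t ≠ 1 → ∀ K ≤ Subgroup.centralizer ({t} : Set G), IsPGroup q K →
      V ≤ Subgroup.normalizer (K : Set G) → K ≤ Q t := fun t ht ht1 =>
    (h.two_prime_structure (fun r hr hd => h.cent_primes (Or.inl (ho2 t ht ht1)) hr hd) S (hVt t ht)).1
  have hmulT : ∀ t ∈ V, t ≠ 1 → ∀ x ∈ Subgroup.centralizer ({t} : Set G), ∃ k ∈ Q t, ∃ v ∈ V, x = k * v := by
    intro t ht ht1 x hx
    obtain ⟨k, hk, g, hg, hgN, e⟩ :=
      (h.two_prime_structure (fun r hr hd => h.cent_primes (Or.inl (ho2 t ht ht1)) hr hd) S (hVt t ht)).2 x hx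
    obtain ⟨u, w, hu, hw, e'⟩ := hsplitC g (hfixC g hgN t ht ht1 (commute_of_memC hg))
    refine ⟨k * w, mul_mem hk ?_, u, hu, by rw [e, e', mul_assoc]⟩
    exact hQmax t ht ht1 P (hPC.trans (hCt t ht)) hPq ((hVC.trans Subgroup.le_normalizer).trans le_normalizer_core) hw
  have hoddT : ∀ t ∈ V, t ≠ 1 → ∀ x ∈ Subgroup.centralizer ({t} : Set G), Odd (orderOf x) → x ∈ Q t := by
    intro t ht ht1 x hx hxo
    obtain ⟨k, hk, v, hv, e⟩ := hmulT t ht ht1 x hx
    exact h.mem_core_of_mul hk (hVt t ht hv) (hsq v hv) hxo e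
  -- the core of the centraliser of the four-group is trivial
  have hPbot : P = ⊥ := by
    by_contra hP0
    obtain ⟨y, hy, hy1⟩ := Subgroup.ne_bot_iff_exists_ne_one.1 hP0 |>.elim
      fun x hx => (⟨x, x.2, fun e => hx (Subtype.ext e)⟩ : ∃ y ∈ P, y ≠ 1)
    set Y := Subgroup.centralizer (P : Set G) with hY
    have hprY : ∀ r : ℕ, r.Prime → r ∣ Nat.card Y → r = 2 ∨ r = q := fun r hr hd =>
      h.cent_primes (Or.inr (h.orderOf_of_mem hPq hy hy1)) hr
        (hd.trans (Subgroup.card_dvd_of_le fun x hx => memC (Subgroup.mem_centralizer_iff.1 hx y hy).symm))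
    have hVY : V ≤ Y := fun v hv => Subgroup.mem_centralizer_iff.2 fun x hx =>
      (Subgroup.mem_centralizer_iff.1 (hPC hx) v hv).symm
    have hNY : Subgroup.normalizer (P : Set G) ≤ Subgroup.normalizer (Y : Set G) := normalizer_le_normalizer_centralizer
    have hρP : ρ ∈ Subgroup.normalizer (P : Set G) := le_normalizer_core (normalizer_le_normalizer_centralizer hρN)
    have hOC : core q Y ≤ C := by
      intro x hx
      have h1 := h.four_centralizes S h4 h.core_isPGroup hρ3 hρN (le_normalizer_core (hNY hρP)) hρfix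
        ((hVY.trans Subgroup.le_normalizer).trans le_normalizer_core)
      exact Subgroup.mem_centralizer_iff.2 fun v hv => (Subgroup.mem_centralizer_iff.1 (h1 hv) x hx).symm
    have hYN : Y ≤ Subgroup.normalizer (V : Set G) := by
      intro x hx
      obtain ⟨k, hk, g, -, hgN, rfl⟩ := (h.two_prime_structure hprY S hVY).2 x hx
      exact mul_mem (hCN (hOC hk)) hgN
    have hNP : Subgroup.normalizer (P : Set G) ≤ Subgroup.normalizer (V : Set G) := by
      refine le_normalizer_of_mem_iff fun g hg v hv => ?_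
      have h1 : g * v * g⁻¹ ∈ Y := (Subgroup.mem_normalizer_iff.1 (hNY hg) v).1 (hVY hv)
      obtain ⟨j, hj⟩ : ∃ j, orderOf (g * v * g⁻¹) = 2 ^ j := by
        obtain ⟨j, hj⟩ := IsPGroup.iff_orderOf.1 S.isPGroup' ⟨v, hv⟩
        rw [Subgroup.orderOf_mk] at hj
        exact ⟨j, (orderOf_injective (MulAut.conj g).toMonoidHom (MulAut.conj g).injective v).trans hj⟩
      exact mem_sylow_of_normalizer S (hYN h1) hj
    have hQP : Q t₀ = P := by
      have hle : P ≤ Q t₀ := hQmax t₀ ht₀V ht₀1 P (hPC.trans (hCt t₀ ht₀V)) hPq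
        ((hVC.trans Subgroup.le_normalizer).trans le_normalizer_core)
      by_contra hne
      obtain ⟨x, hx, hxN, hxP⟩ := exists_mem_normalizer (hQq t₀) hle (Ne.symm hne)
      exact hxP (hoddC x (hfixC x (hNP hxN) t₀ ht₀V ht₀1 (commute_of_memC (hQle t₀ hx))) (hxodd (hKodd (hQq t₀)) hx))
    have hT : Subgroup.centralizer ({t₀} : Set G) ≤ Subgroup.normalizer (V : Set G) := by
      intro x hx
      obtain ⟨k, hk, v, hv, rfl⟩ := hmulT t₀ ht₀V ht₀1 x hx
      exact mul_mem (hCN (hPC (hQP ▸ hk))) (Subgroup.le_normalizer hv)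
    have hn : (V.subgroupOf (Subgroup.centralizer ({t₀} : Set G))).Normal :=
      ⟨fun v hv g => (Subgroup.mem_normalizer_iff.1 (hT g.2) v).1 hv⟩
    have hodd : ¬ 2 ∣ V.relIndex (Subgroup.centralizer ({t₀} : Set G)) := fun hd =>
      S.not_dvd_index (hd.trans (Dvd.intro _ (Subgroup.relIndex_mul_index (hVt t₀ ht₀V))))
    obtain ⟨e5⟩ := S3278.result t₀ (ho2 t₀ ht₀V ht₀1) V (hVt t₀ ht₀V) hKF hodd hn
    obtain ⟨x, hx⟩ := h.ex
    have hA5 : ∀ g : alternatingGroup (Fin 5), g ^ 2 = 1 ∨ g ^ 3 = 1 ∨ g ^ 5 = 1 := by decide +kernel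
    have hx' : orderOf (e5 x) = 2 * q := by rw [← hx]; exact orderOf_injective e5.toMonoidHom e5.injective x
    have h3 : 3 ≤ q := by have := h.prime.two_le; have := h.ne_two; omega
    rcases hA5 (e5 x) with e | e | e <;>
      [have := Nat.le_of_dvd two_pos (hx' ▸ orderOf_dvd_of_pow_eq_one e);
       have := Nat.le_of_dvd (by norm_num) (hx' ▸ orderOf_dvd_of_pow_eq_one e);
       have := Nat.le_of_dvd (by norm_num) (hx' ▸ orderOf_dvd_of_pow_eq_one e)] <;> omega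
  have hCV : ∀ x ∈ C, x ∈ V := by
    intro x hx
    obtain ⟨u, w, hu, hw, rfl⟩ := hsplitC x hx
    rw [hPbot, Subgroup.mem_bot] at hw
    rw [hw, one_mul]
    exact hu
  have hfix2 : ∀ {K : Subgroup G}, IsPGroup q K → ∀ t ∈ V, t ≠ 1 → ∀ s ∈ V, s ≠ 1 → s ≠ t →
      ∀ y ∈ K, Commute t y → Commute s y → y = 1 := by
    intro K hK t ht ht1 s hs hs1 hst y hy hty hsy
    refine hVK hK y (hCV y (Subgroup.mem_centralizer_iff.2 fun v hv => ?_)) hy
    rcases h.four_cases S h4 ht hs ht1 hs1 (Ne.symm hst) hv with rfl | rfl | rfl | rfl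
    · exact (Commute.one_left y).eq
    · exact hty.eq
    · exact hsy.eq
    · exact (hty.mul_left hsy).eq
  have hinvQ : ∀ t ∈ V, t ≠ 1 → ∀ s ∈ V, s ≠ 1 → s ≠ t → ∀ y ∈ Q t, s * y * s⁻¹ = y⁻¹ := fun t ht ht1 s hs hs1 hst =>
    inverts_of_fpf (hsq s hs) (hVQ t ht hs) fun y hy hc =>
      hfix2 (hQq t) t ht ht1 s hs hs1 hst y hy (commute_of_memC (hQle t hy)).symm hc
  -- local subgroups
  obtain ⟨t₁, ht₁V, ht₁1, ht10⟩ : ∃ t ∈ V, t ≠ 1 ∧ t ≠ t₀ :=
    ⟨_, hρmem t₀ ht₀V, fun e => ht₀1 (conj_eq_one_iff.1 e), hρfix t₀ ht₀V ht₀1⟩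
  have hlocal : ∀ D : Subgroup G, IsPGroup q D → D ≠ ⊥ → V ≤ Subgroup.normalizer (D : Set G) →
      ∃ Y : Subgroup G, IsPGroup q Y ∧ V ≤ Subgroup.normalizer (Y : Set G) ∧
        (∀ x ∈ Subgroup.normalizer (D : Set G), Odd (orderOf x) → x ∈ Y) ∧
        (∀ x ∈ Subgroup.normalizer (D : Set G), ∃ y ∈ Y, ∃ v ∈ V, x = y * v) := by
    intro D hD hD1 hVD
    obtain ⟨Y, hYodd, hYN, hY1, hY2⟩ := exists_odd_complement S hVD fun n hnD hnN => by
      by_contra hnc
      obtain ⟨w, hw, hw3, hwf⟩ := h.mover S h4 hnN hnc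
      have h1 := h.four_centralizes S h4 hD hw3 (Subgroup.zpowers_le.2 hnN hw) (Subgroup.zpowers_le.2 hnD hw) hwf hVD
      refine hD1 ((Subgroup.eq_bot_iff_forall D).2 fun d hd => hVK hD d (hCV d ?_) hd)
      exact Subgroup.mem_centralizer_iff.2 fun v hv => (Subgroup.mem_centralizer_iff.1 (h1 hv) d hd).symm
    exact ⟨Y, h.odd_invariant hYodd (ho2 t₀ ht₀V ht₀1) (ho2 t₁ ht₁V ht₁1) (hab t₀ ht₀V t₁ ht₁V) (Ne.symm ht10)
      ((hVD.trans hYN) ht₀V) ((hVD.trans hYN) ht₁V), hVD.trans hYN, hY1, hY2⟩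
  let MX : Subgroup G → Prop := fun R => IsPGroup q R ∧ V ≤ Subgroup.normalizer (R : Set G)
  have hTI : ∀ n : ℕ, ∀ R₁ R₂ : Subgroup G, Nat.card G - Nat.card (R₁ ⊓ R₂ : Subgroup G) = n →
      Maximal MX R₁ → Maximal MX R₂ → R₁ ⊓ R₂ ≠ ⊥ → R₁ = R₂ := by
    intro n
    induction n using Nat.strong_induction_on with
    | _ n ih =>
      intro R₁ R₂ hn h1 h2 hne
      set D := R₁ ⊓ R₂ with hD
      have hDq : IsPGroup q D := h1.1.1.to_le inf_le_left
      have hVD : V ≤ Subgroup.normalizer (D : Set G) := le_normalizer_of_mem_iff fun v hv d hd =>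
        ⟨(Subgroup.mem_normalizer_iff.1 (h1.1.2 hv) d).1 hd.1, (Subgroup.mem_normalizer_iff.1 (h2.1.2 hv) d).1 hd.2⟩
      obtain ⟨Y, hYq, hVY, hYodd, -⟩ := hlocal D hDq hne hVD
      obtain ⟨R₃, hYR, h3⟩ := Finite.exists_le_maximal (p := MX) (a := Y) ⟨hYq, hVY⟩
      have key : ∀ R, Maximal MX R → D ≤ R → D ≠ R → R = R₃ := by
        intro R hR hDR hne'
        obtain ⟨x, hx, hxN, hxD⟩ := exists_mem_normalizer hR.1.1 hDR hne'
        have hD3 : D ≤ R₃ := fun d hd => hYR (hYodd d (Subgroup.le_normalizer hd) (hxodd (hKodd hDq) hd))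
        have hlt : D < R ⊓ R₃ := lt_of_le_of_ne (le_inf hDR hD3) fun e => hxD (by
          rw [e]; exact ⟨hx, hYR (hYodd x hxN (hxodd (hKodd hR.1.1) hx))⟩)
        refine ih _ ?_ R R₃ rfl hR h3 fun e => hne (le_bot_iff.1 (e ▸ hlt.le))
        have hc1 : Nat.card D < Nat.card (R ⊓ R₃ : Subgroup G) := by
          refine lt_of_le_of_ne (Nat.le_of_dvd Nat.card_pos (Subgroup.card_dvd_of_le hlt.le)) fun e => hlt.ne
            (Subgroup.eq_of_le_of_card_ge hlt.le e.ge)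
        have hc2 : Nat.card (R ⊓ R₃ : Subgroup G) ≤ Nat.card G := Nat.le_of_dvd Nat.card_pos (Subgroup.card_subgroup_dvd_card _)
        omega
      by_cases e1 : D = R₁
      · exact h1.eq_of_le h2.1 (e1 ▸ inf_le_right)
      by_cases e2 : D = R₂
      · exact (h2.eq_of_le h1.1 (e2 ▸ inf_le_left)).symm
      exact (key R₁ h1 inf_le_left e1).trans (key R₂ h2 inf_le_right e2).symm
  have hQne : ∀ t ∈ V, t ≠ 1 → Q t ≠ ⊥ := by
    intro t ht ht1 hQ0
    obtain ⟨x, hx⟩ := h.ex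
    have hu : orderOf (x ^ q) = 2 := by rw [orderOf_pow' _ h.prime.ne_zero, hx, Nat.gcd_mul_left_left, Nat.mul_div_cancel _ h.prime.pos]
    have hy : orderOf (x ^ 2) = q := by rw [orderOf_pow' _ two_ne_zero, hx, Nat.gcd_mul_right_left, Nat.mul_div_cancel_left _ two_pos]
    obtain ⟨g, hg⟩ := hconj _ t hu (ho2 t ht ht1)
    have hm : g * x ^ 2 * g⁻¹ ∈ Q t := by
      refine hoddT t ht ht1 _ (memC ?_) ?_
      · rw [← hg]
        exact ((Commute.refl x).pow_pow 2 q).map (MulAut.conj g)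
      · rw [show g * x ^ 2 * g⁻¹ = (MulAut.conj g).toMonoidHom (x ^ 2) from rfl,
          orderOf_injective _ (MulAut.conj g).injective, hy]
        exact hqodd
    rw [hQ0, Subgroup.mem_bot, conj_eq_one_iff] at hm
    rw [hm, orderOf_one] at hy
    exact h.prime.one_lt.ne hy
  have hQRmax : ∀ t ∈ V, t ≠ 1 → Maximal MX (Q t) := by
    intro t ht ht1
    obtain ⟨R, hQR, hR⟩ := Finite.exists_le_maximal (p := MX) (a := Q t) ⟨hQq t, hVQ t ht⟩
    suffices hle : R ≤ Q t by rwa [le_antisymm hQR hle]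
    have hfpf : ∀ s ∈ V, s ≠ 1 → s ≠ t → ∀ y ∈ R, Commute s y → y = 1 := by
      intro s hs hs1 hst y hy hc
      by_contra hy1
      obtain ⟨Rs, hQs, hRs⟩ := Finite.exists_le_maximal (p := MX) (a := Q s) ⟨hQq s, hVQ s hs⟩
      have hys : y ∈ Q s := hoddT s hs hs1 y (memC hc.symm) (hxodd (hKodd hR.1.1) hy)
      have hRR : R = Rs := hTI _ R Rs rfl hR hRs fun e => hy1 (Subgroup.mem_bot.1 (e ▸ ⟨hy, hQs hys⟩))
      -- the element of order three normalises the maximal subgroup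
      obtain ⟨g, hgN, hg3, hgf, hgts⟩ : ∃ g ∈ Subgroup.normalizer (V : Set G), orderOf g = 3 ∧
          (∀ v ∈ V, v ≠ 1 → g * v * g⁻¹ ≠ v) ∧ g * t * g⁻¹ = s := by
        rcases horbit t ht ht1 s hs hs1 with e | e | e
        · exact absurd e hst
        · exact ⟨ρ, hρN, hρ3, hρfix, e.symm⟩
        · refine ⟨ρ⁻¹, inv_mem hρN, by rw [orderOf_inv, hρ3], fun v hv hv1 e' => hρfix v hv hv1 ?_, by rw [inv_inv, e]⟩
          calc ρ * v * ρ⁻¹ = ρ * (ρ⁻¹ * v * ρ⁻¹⁻¹) * ρ⁻¹ := by rw [e']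
            _ = v := by group
      set cg := (MulAut.conj g).toMonoidHom
      have hcore : (Q t).map cg ≤ Q s := by
        refine hQmax s hs hs1 _ ?_ ((hQq t).map _) ?_
        · rintro _ ⟨z, hz, rfl⟩
          exact memC (hgts ▸ (commute_of_memC (hQle t hz)).map (MulAut.conj g))
        · refine le_normalizer_of_mem_iff ?_
          rintro v hv _ ⟨z, hz, rfl⟩
          refine ⟨(g⁻¹ * v * g) * z * (g⁻¹ * v * g)⁻¹, (Subgroup.mem_normalizer_iff.1 (hVQ t ht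
            ((Subgroup.mem_normalizer_iff.1 hgN _).2 (by simpa [mul_assoc] using hv))) z).1 hz, ?_⟩
          show g * _ * g⁻¹ = v * (g * z * g⁻¹) * v⁻¹
          group
      have hR' : Maximal MX (R.map cg) := by
        have hmap : ∀ (k : G), k ∈ Subgroup.normalizer (V : Set G) → ∀ T, MX T → MX (T.map (MulAut.conj k).toMonoidHom) := by
          intro k hk T hT
          refine ⟨hT.1.map _, le_normalizer_of_mem_iff ?_⟩
          rintro v hv _ ⟨z, hz, rfl⟩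
          refine ⟨(k⁻¹ * v * k) * z * (k⁻¹ * v * k)⁻¹, (Subgroup.mem_normalizer_iff.1 (hT.2
            ((Subgroup.mem_normalizer_iff.1 hk _).2 (by simpa [mul_assoc] using hv))) z).1 hz, ?_⟩
          show k * _ * k⁻¹ = v * (k * z * k⁻¹) * v⁻¹
          group
        refine ⟨hmap g hgN R hR.1, fun T hT hle => ?_⟩
        have h1 : R ≤ T.map (MulAut.conj g⁻¹).toMonoidHom := fun z hz =>
          ⟨g * z * g⁻¹, hle ⟨z, hz, rfl⟩, show g⁻¹ * (g * z * g⁻¹) * g⁻¹⁻¹ = z by group⟩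
        intro z hz
        obtain ⟨w, hw⟩ : ∃ w, w = g⁻¹ * z * g⁻¹⁻¹ := ⟨_, rfl⟩
        have h2 : w ∈ R := hR.2 (hmap g⁻¹ (inv_mem hgN) T hT) h1 ⟨z, hz, hw.symm⟩
        exact ⟨w, h2, show g * w * g⁻¹ = z by rw [hw]; group⟩
      have hRg : R.map cg = R := by
        rw [hRR] at hR' ⊢
        refine hTI _ _ _ rfl hR' hRs fun e => hQne t ht ht1 ?_
        have h1 : (Q t).map cg ≤ Rs.map cg ⊓ Rs := le_inf (Subgroup.map_mono (hRR ▸ hQR)) (hcore.trans hQs)
        rw [e, le_bot_iff, Subgroup.map_eq_bot_iff_of_injective _ (MulAut.conj g).injective] at h1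
        exact h1
      have h1 := h.four_centralizes S h4 hR.1.1 hg3 hgN
        (mem_normalizer_of_forall fun z hz => hRg.le ⟨z, hz, rfl⟩) hgf hR.1.2
      exact hy1 (hVK hR.1.1 y (hCV y (Subgroup.mem_centralizer_iff.2 fun v hv =>
        (Subgroup.mem_centralizer_iff.1 (h1 hv) y hy).symm)) hy)
    obtain ⟨s, hs, hs1, hst, hst1⟩ : ∃ s ∈ V, s ≠ 1 ∧ s ≠ t ∧ s * t ≠ 1 := by
      refine ⟨ρ * t * ρ⁻¹, hρmem t ht, fun e => ht1 (conj_eq_one_iff.1 e), hρfix t ht ht1, fun e => hρfix t ht ht1 ?_⟩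
      rw [eq_inv_of_mul_eq_one_left e, inv_eq_of_mul_eq_one_left (hsq t ht)]
    have hu1 : s * t ≠ t := fun e => hs1 (mul_eq_right.1 e)
    have hsI := inverts_of_fpf (hsq s hs) (hR.1.2 hs) (hfpf s hs hs1 hst)
    have huI := inverts_of_fpf (hsq _ (mul_mem hs ht)) (hR.1.2 (mul_mem hs ht)) (hfpf _ (mul_mem hs ht) hst1 hu1)
    refine hQmax t ht ht1 R (fun y hy => memC ?_) hR.1.1 hR.1.2
    have e1 := hsI y hy
    have e2 := huI y hy
    rw [show s * t * y * (s * t)⁻¹ = s * (t * y * t⁻¹) * s⁻¹ by group, ← e1] at e2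
    exact (mul_inv_eq_iff_eq_mul.1 (mul_left_cancel (mul_right_cancel e2))).symm
  -- apply the recognition theorem
  obtain ⟨e⟩ : Nonempty ((S : Subgroup G) ≃* DihedralGroup 2) := IsKleinFour.nonempty_mulEquiv
  refine Char.BSW.psl_of_dihedral_wall S le_rfl e (ho2 t₀ ht₀V ht₀1) ht₀V (fun s hs => hab s hs t₀ ht₀V) (Q t₀) ?_ ?_ ?_ ?_
  · refine le_antisymm ?_ ?_
    · refine Subgroup.map_mono ?_
      haveI : (Cfsg.pCore q (Subgroup.centralizer ({t₀} : Set G))).Normal := Solv.pCore_normal q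
      refine Fusion.le_pPrimeCore ?_
      obtain ⟨j, hj⟩ := IsPGroup.iff_card.1 (Solv.pCore_isPGroup (G := Subgroup.centralizer ({t₀} : Set G)) q)
      rw [hj]
      exact ((Nat.coprime_primes h.prime Nat.prime_two).2 h.ne_two).pow_left j
    · rintro _ ⟨x, hx, rfl⟩
      refine hoddT t₀ ht₀V ht₀1 x x.2 ?_
      rw [← Nat.coprime_two_right, Subgroup.orderOf_coe]
      exact Fusion.mem_pPrimeCore_orderOf hx
  · intro hQ0
    have heq : (S : Subgroup G) ⊓ Subgroup.centralizer (Q t₀ : Set G) = Subgroup.zpowers t₀ := by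
      refine le_antisymm ?_ (Subgroup.zpowers_le.2 ⟨ht₀V, Subgroup.mem_centralizer_iff.2 fun y hy => (commute_of_memC (hQle t₀ hy)).eq⟩)
      rintro s ⟨hs, hsc⟩
      by_cases hs1 : s = 1
      · rw [hs1]; exact one_mem _
      by_cases hst : s = t₀
      · rw [hst]; exact Subgroup.mem_zpowers _
      exfalso
      refine hQ0 ((Subgroup.eq_bot_iff_forall _).2 fun y hy => ?_)
      exact hfix2 (hQq t₀) t₀ ht₀V ht₀1 s hs hs1 hst y hy (commute_of_memC (hQle t₀ hy)).symm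
        (Subgroup.mem_centralizer_iff.1 hsc y hy).symm
    rw [heq]
    refine ⟨inferInstance, ?_⟩
    have h5 : Nat.card (Subgroup.zpowers t₀) * (Subgroup.zpowers t₀).relIndex V = Nat.card V := by
      rw [← Subgroup.relIndex_bot_left, ← Subgroup.relIndex_bot_left, Subgroup.relIndex_mul_relIndex _ _ _ bot_le (Subgroup.zpowers_le.2 ht₀V)]
    rw [h4, Nat.card_zpowers, ho2 t₀ ht₀V ht₀1] at h5
    simp only [hV] at h5 ⊢
    omega
  · intro s hs hsc
    refine hinvQ t₀ ht₀V ht₀1 s hs (fun e => hsc (e ▸ one_mem _)) fun e => hsc ?_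
    rw [e]
    exact Subgroup.mem_centralizer_iff.2 fun y hy => (commute_of_memC (hQle t₀ hy)).eq
  · intro Y hY hY1
    have hVY : V ≤ Subgroup.normalizer (Y : Set G) := by
      refine le_normalizer_of_mem_iff fun s hs y hy => ?_
      by_cases hst : s = 1 ∨ s = t₀
      · rcases hst with rfl | rfl
        · simpa using hy
        · rwa [← (commute_of_memC (hQle _ (hY hy))).eq, mul_inv_cancel_right]
      · push Not at hst
        rw [hinvQ t₀ ht₀V ht₀1 s hs hst.1 hst.2 y (hY hy)]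
        exact Y.inv_mem hy
    obtain ⟨Y', hY'q, hVY', hY'odd, hY'mul⟩ := hlocal Y ((hQq t₀).to_le hY) hY1 hVY
    obtain ⟨R, hYR, hR⟩ := Finite.exists_le_maximal (p := MX) (a := Y') ⟨hY'q, hVY'⟩
    have hRQ : R = Q t₀ := hTI _ R (Q t₀) rfl hR (hQRmax t₀ ht₀V ht₀1) fun e => hY1 (le_bot_iff.1 (e ▸ le_inf
      (fun y hy => hYR (hY'odd y (Subgroup.le_normalizer hy) (hxodd (hKodd (hQq t₀)) (hY hy)))) hY))
    intro x hx
    obtain ⟨y, hy, v, hv, rfl⟩ := hY'mul x hx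
    exact mul_mem (hQle t₀ (hRQ ▸ hYR hy)) (hVt t₀ ht₀V hv)

end Cfsg.Agent.Lie.TwoQ
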