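import Cfsg.Agent.Lib.Lie.TwoQ.FourMain
import Cfsg.Agent.Lib.Fusion.StronglyEmbeddedPairs
import Cfsg.Agent.S1285
import Cfsg.Agent.S0058

/-!
# Sylow 2-subgroups of order at least eight in the two-prime setting

The largest invariant `q`-subgroup, the strongly embedded normaliser, and the automiser.
-/

set_option autoImplicit false
set_option linter.unusedSectionVars false
set_option linter.style.haveILetI false

namespace Cfsg.Agent.Lie.TwoQ

open Cfsg
open Cfsg.Agent.Fusion.SEPairs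

universe u

variable {G : Type u} [Group G] [Finite G] {q : ℕ}

/-- A criterion for strong embedding when the Sylow subgroups are abelian. -/
theorem stronglyEmbedded_of (S : Sylow 2 G) (hS1 : (S : Subgroup G) ≠ ⊥)
    (hab : ∀ x ∈ (S : Subgroup G), ∀ y ∈ (S : Subgroup G), x * y = y * x) {M : Subgroup G} (hM : M ≠ ⊤)
    (hN : Subgroup.normalizer ((S : Subgroup G) : Set G) ≤ M)
    (hC : ∀ t ∈ (S : Subgroup G), t ≠ 1 → Subgroup.centralizer ({t} : Set G) ≤ M) :
    Cfsg.IsStronglyEmbedded M := by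
  haveI : Fact (Nat.Prime 2) := ⟨Nat.prime_two⟩
  have hSM : (S : Subgroup G) ≤ M := Subgroup.le_normalizer.trans hN
  refine (S0214.result M hM (S.subtype hSM) fun e => hS1 ?_).2 fun X hX hX1 g hg => ?_
  · rw [← Subgroup.map_subgroupOf_eq_of_le hSM, ← Sylow.coe_subtype S hSM, e, Subgroup.map_bot]
  obtain ⟨⟨x, hx⟩, hx1⟩ := Subgroup.ne_bot_iff_exists_ne_one.1 hX1
  have hxS : (x : G) ∈ (S : Subgroup G) := hX hx
  have hx1' : (x : G) ≠ 1 := fun e => hx1 (Subtype.ext (Subtype.ext e))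
  set t := g * (x : G) * g⁻¹ with ht
  have htS : t ∈ (S : Subgroup G) := by
    obtain ⟨y, hy, e⟩ := (Subgroup.mem_normalizer_iff.1 hg _).1 ⟨x, hx, rfl⟩
    rw [ht]
    exact e ▸ hX hy
  have ht1 : t ≠ 1 := fun e => hx1' (conj_eq_one_iff.1 e)
  have h1 : (S : Subgroup G) ≤ Subgroup.centralizer ({t} : Set G) := fun s hs => memC (hab s hs t htS)
  have h2 : (g • S : Sylow 2 G) ≤ Subgroup.centralizer ({t} : Set G) := by
    rintro _ ⟨s, hs, rfl⟩
    exact memC ((show Commute s (x : G) from hab s hs x hxS).map (MulAut.conj g))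
  obtain ⟨c, hc⟩ := MulAction.exists_smul_eq (Subgroup.centralizer ({t} : Set G)) (S.subtype h1) ((g • S).subtype h2)
  rw [Sylow.smul_subtype] at hc
  have h3 : (c : G) • S = g • S := Sylow.subtype_injective hc
  have h4 : (c : G)⁻¹ * g ∈ Subgroup.normalizer ((S : Subgroup G) : Set G) :=
    Sylow.smul_eq_iff_mem_normalizer.1 (by rw [mul_smul, ← h3, inv_smul_smul])
  have h5 := mul_mem (hC t htS ht1 c.2) (hN h4)
  rwa [mul_inv_cancel_left] at h5

/-- In a strongly embedded setting the normaliser of an abelian Sylow 2-subgroup fuses its involutions. -/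
theorem exists_normalizer_conj (S : Sylow 2 G)
    (hab : ∀ x ∈ (S : Subgroup G), ∀ y ∈ (S : Subgroup G), x * y = y * x)
    {M : Subgroup G} (hse : Cfsg.IsStronglyEmbedded M) {a b : G} (ha : a ∈ (S : Subgroup G))
    (hb : b ∈ (S : Subgroup G)) (ha2 : orderOf a = 2) (hb2 : orderOf b = 2) :
    ∃ n ∈ Subgroup.normalizer ((S : Subgroup G) : Set G), n * a * n⁻¹ = b := by
  haveI : Fact (Nat.Prime 2) := ⟨Nat.prime_two⟩
  obtain ⟨g, hg⟩ := isConj_iff.1 (involutions_conj hse ha2 hb2)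
  have h1 : (S : Subgroup G) ≤ Subgroup.centralizer ({b} : Set G) := fun s hs => memC (hab s hs b hb)
  have h2 : (g • S : Sylow 2 G) ≤ Subgroup.centralizer ({b} : Set G) := by
    rintro _ ⟨s, hs, rfl⟩
    refine memC ?_
    rw [← hg]
    exact (show Commute s a from hab s hs a ha).map (MulAut.conj g)
  obtain ⟨c, hc⟩ := MulAction.exists_smul_eq (Subgroup.centralizer ({b} : Set G)) ((g • S).subtype h2) (S.subtype h1)
  rw [Sylow.smul_subtype] at hc
  refine ⟨(c : G) * g, Sylow.smul_eq_iff_mem_normalizer.1 (by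
    rw [mul_smul]; exact Sylow.subtype_injective hc), ?_⟩
  rw [show (c : G) * g * a * ((c : G) * g)⁻¹ = (c : G) * (g * a * g⁻¹) * (c : G)⁻¹ by group, hg,
    (commute_of_memC c.2).eq, mul_inv_cancel_right]

/-- The facts about the largest invariant `q`-subgroup `W` and the normaliser of `S`. -/
structure Setup (q : ℕ) (S : Sylow 2 G) (W : Subgroup G) : Prop where
  hyp : Hyp G q
  pgroup : IsPGroup q W
  max : ∀ K : Subgroup G, IsPGroup q K → (S : Subgroup G) ≤ Subgroup.normalizer (K : Set G) → K ≤ W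
  centr : (S : Subgroup G) ≤ Subgroup.centralizer (W : Set G)
  norm : Subgroup.normalizer ((S : Subgroup G) : Set G) ≤ Subgroup.normalizer (W : Set G)
  split : ∀ x ∈ Subgroup.centralizer ((S : Subgroup G) : Set G), ∃ w ∈ W, ∃ s ∈ (S : Subgroup G), x = w * s
  cent : ∀ t ∈ (S : Subgroup G), t ≠ 1 → Subgroup.centralizer ({t} : Set G) ≤ Subgroup.normalizer ((S : Subgroup G) : Set G)
  centW : ∀ x ∈ W, x ≠ 1 → Subgroup.centralizer ({x} : Set G) ≤ Subgroup.normalizer ((S : Subgroup G) : Set G)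
  normW : ∀ x ∈ W, x ≠ 1 → Subgroup.normalizer (Subgroup.zpowers x : Set G) ≤ Subgroup.normalizer ((S : Subgroup G) : Set G)
  se : Cfsg.IsStronglyEmbedded (Subgroup.normalizer ((S : Subgroup G) : Set G))
  trans : ∀ a ∈ (S : Subgroup G), a ≠ 1 → ∀ b ∈ (S : Subgroup G), b ≠ 1 →
    ∃ n ∈ Subgroup.normalizer ((S : Subgroup G) : Set G), n * a * n⁻¹ = b

/-- A moving element of odd order yields one of prime order. -/
theorem Hyp.exists_prime_mover (h : Hyp G q) (S : Sylow 2 G) {t : G} (htS : t ∈ (S : Subgroup G)) (ht : t ≠ 1)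
    {w : G} (hw : Odd (orderOf w)) (hwc : w ∉ Subgroup.centralizer ((S : Subgroup G) : Set G)) :
    ∃ y ∈ Subgroup.zpowers w, (orderOf y).Prime ∧ y ∉ Subgroup.centralizer ((S : Subgroup G) : Set G) := by
  have hw1 : w ≠ 1 := fun e => hwc (e ▸ one_mem _)
  obtain ⟨r, i, hr, hd, hi⟩ := exists_prime_pow_power hw1
  by_cases hc : w ^ i ∈ Subgroup.centralizer ((S : Subgroup G) : Set G)
  · have hr2 : r ≠ 2 := fun e => Nat.not_even_iff_odd.2 hw (even_iff_two_dvd.2 (e ▸ hd))
    have hrq : r = q := by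
      by_contra hrq
      exact h.no_commute (Or.inl (Solv.CITGroups.orderOf_two_iff.2 ⟨h.two_sq S.isPGroup' htS, ht⟩)) hr hr2 hrq hi
        (Subgroup.mem_centralizer_iff.1 hc t htS)
    rcases h.qord w (hrq ▸ hd) with e | e
    · exact ⟨w, Subgroup.mem_zpowers w, e ▸ h.prime, hwc⟩
    · exact absurd (e ▸ even_two_mul q) (Nat.not_even_iff_odd.2 hw)
  · exact ⟨w ^ i, Subgroup.npow_mem_zpowers _ _, hi ▸ hr, hc⟩

theorem Hyp.setup [IsSimpleGroup G] (h : Hyp G q) (hna : ∃ a b : G, a * b ≠ b * a) (S : Sylow 2 G)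
    (h8 : 8 ≤ Nat.card (S : Subgroup G)) : ∃ W : Subgroup G, Setup q S W := by
  classical
  haveI := Fact.mk h.prime
  haveI : Fact (Nat.Prime 2) := ⟨Nat.prime_two⟩
  set V : Subgroup G := (S : Subgroup G) with hV
  have hsq : ∀ x ∈ V, x * x = 1 := fun x hx => h.two_sq S.isPGroup' hx
  have hab : ∀ x ∈ V, ∀ y ∈ V, x * y = y * x := fun x hx y hy => h.two_comm S.isPGroup' hx hy
  have ho2 : ∀ x ∈ V, x ≠ 1 → orderOf x = 2 := fun x hx hx1 =>
    Solv.CITGroups.orderOf_two_iff.2 ⟨hsq x hx, hx1⟩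
  have hV1 : V ≠ ⊥ := fun e => by rw [e, Subgroup.card_bot] at h8; omega
  obtain ⟨t₀, ht₀V, ht₀1⟩ : ∃ t ∈ V, t ≠ 1 :=
    (Subgroup.ne_bot_iff_exists_ne_one.1 hV1).elim fun x hx => ⟨x, x.2, fun e => hx (Subtype.ext e)⟩
  obtain ⟨t₁, ht₁V, ht₁1, ht10⟩ : ∃ t ∈ V, t ≠ 1 ∧ t ≠ t₀ := by
    by_contra hno
    push Not at hno
    have hle : V ≤ Subgroup.zpowers t₀ := fun x hx => by
      by_cases hx1 : x = 1
      · exact hx1 ▸ one_mem _
      · exact (hno x hx hx1) ▸ Subgroup.mem_zpowers _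
    have := Nat.le_of_dvd Nat.card_pos (Subgroup.card_dvd_of_le hle)
    rw [Nat.card_zpowers, ho2 t₀ ht₀V ht₀1] at this
    omega
  haveI : IsMulCommutative V := ⟨⟨fun x y => Subtype.ext (hab x x.2 y y.2)⟩⟩
  have hnc : ¬ IsCyclic V := fun hc => by
    obtain ⟨g, hg⟩ := hc.exists_generator
    have h1 : Nat.card V = orderOf g := (orderOf_eq_card_of_forall_mem_zpowers hg).symm
    have h2 : orderOf g ∣ 2 := orderOf_dvd_of_pow_eq_one (Subtype.ext (by rw [pow_two]; exact hsq g g.2))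
    have := Nat.le_of_dvd two_pos h2
    omega
  let Q : G → Subgroup G := fun t => core q (Subgroup.centralizer ({t} : Set G))
  have hVt : ∀ t ∈ V, V ≤ Subgroup.centralizer ({t} : Set G) := fun t ht x hx => memC (hab x hx t ht)
  have hQq : ∀ t, IsPGroup q (Q t) := fun t => h.core_isPGroup
  have hVQ : ∀ t ∈ V, V ≤ Subgroup.normalizer (Q t : Set G) := fun t ht =>
    (hVt t ht).trans (Subgroup.le_normalizer.trans le_normalizer_core)
  have hstr := fun t (ht : t ∈ V) (ht1 : t ≠ 1) =>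
    h.two_prime_structure (fun r hr hd => h.cent_primes (Or.inl (ho2 t ht ht1)) hr hd) S (hVt t ht)
  have h2q : ∀ {K : Subgroup G}, IsPGroup q K → ¬ 2 ∣ Nat.card K := fun hK hd => by
    obtain ⟨j, hj⟩ := IsPGroup.iff_card.1 hK
    rw [hj] at hd
    exact h.ne_two ((Nat.prime_dvd_prime_iff_eq Nat.prime_two h.prime).1 (Nat.prime_two.dvd_of_dvd_pow hd)).symm
  have hθ : Cfsg.IsSolvableSignalizerFunctor 2 V Q := by
    refine ⟨⟨fun a ha ha1 => core_le, fun a ha ha1 => h2q (hQq a), fun a ha ha1 b hb x hx => ?_,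
      fun a ha ha1 b hb hb1 => ?_⟩, fun a ha ha1 => ?_⟩
    · exact (Subgroup.mem_normalizer_iff.1 (hVQ a ha hb) x).1 hx
    · refine (hstr b hb hb1).1 _ inf_le_right ((hQq a).to_le inf_le_left) (le_normalizer_of_mem_iff fun v hv k hk =>
        ⟨(Subgroup.mem_normalizer_iff.1 (hVQ a ha hv) k).1 hk.1, memC ?_⟩)
      exact ((show Commute v b from hab v hv b hb).mul_left (commute_of_memC hk.2)).mul_left
        (show Commute v b from hab v hv b hb).inv_left
    · haveI := (hQq a).isNilpotent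
      infer_instance
  obtain ⟨-, X, hXV, hX2, hXθ⟩ := S1285.result 2 V ⟨inferInstance, fun a ha => by rw [pow_two]; exact hsq a ha⟩
    (by omega) Q hθ q fun a ha ha1 => hQq a
  have hVX : V ≤ Subgroup.normalizer (X : Set G) := le_normalizer_of_mem_iff hXV
  have hXq : IsPGroup q X := h.odd_invariant (Nat.not_even_iff_odd.1 fun e => hX2 (even_iff_two_dvd.1 e))
    (ho2 t₀ ht₀V ht₀1) (ho2 t₁ ht₁V ht₁1) (hab t₀ ht₀V t₁ ht₁V) (Ne.symm ht10) (hVX ht₀V) (hVX ht₁V)
  have hmax : ∀ K : Subgroup G, IsPGroup q K → V ≤ Subgroup.normalizer (K : Set G) → K ≤ X := by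
    intro K hK hVK
    have hco : (Nat.card V).Coprime (Nat.card K) := by
      obtain ⟨i, hi⟩ := IsPGroup.iff_card.1 S.isPGroup'
      rw [hi]
      exact (Nat.prime_two.coprime_iff_not_dvd.2 (h2q hK)).pow_left i
    rw [← S0058.result V K hnc hVK hco]
    refine iSup₂_le fun a ha => ?_
    have h1 : K ⊓ Subgroup.centralizer {a} ≤ Q a := (hstr a ha.1 ha.2).1 _ inf_le_right (hK.to_le inf_le_left)
      (le_normalizer_of_mem_iff fun v hv k hk => ⟨(Subgroup.mem_normalizer_iff.1 (hVK hv) k).1 hk.1, memC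
        (((show Commute v a from hab v hv a ha.1).mul_left (commute_of_memC hk.2)).mul_left
          (show Commute v a from hab v hv a ha.1).inv_left)⟩)
    exact h1.trans ((hXθ a ha.1 ha.2).ge.trans inf_le_left)
  set N := Subgroup.normalizer (V : Set G) with hN
  have hNX : N ≤ Subgroup.normalizer (X : Set G) := by
    refine le_normalizer_of_mem_iff fun n hn x hx => ?_
    refine hmax (X.map (MulAut.conj n).toMonoidHom) (hXq.map _) (le_normalizer_of_mem_iff ?_) ⟨x, hx, rfl⟩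
    rintro v hv _ ⟨y, hy, rfl⟩
    refine ⟨(n⁻¹ * v * n) * y * (n⁻¹ * v * n)⁻¹, hXV _
      ((Subgroup.mem_normalizer_iff.1 hn _).2 (by simpa [mul_assoc] using hv)) y hy, ?_⟩
    show n * _ * n⁻¹ = v * (n * y * n⁻¹) * v⁻¹
    group
  have hCXN : ∀ t ∈ V, t ≠ 1 → ∀ x ∈ Subgroup.centralizer ({t} : Set G), ∃ k ∈ X, ∃ g ∈ N, x = k * g := by
    intro t ht ht1 x hx
    obtain ⟨k, hk, g, -, hg, e⟩ := (hstr t ht ht1).2 x hx
    exact ⟨k, ((hXθ t ht ht1).ge hk).1, g, hg, e⟩
  have hNtop : N ≠ ⊤ := fun e => by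
    haveI : V.Normal := Subgroup.normalizer_eq_top_iff.1 e
    rcases IsSimpleGroup.eq_bot_or_eq_top_of_normal V inferInstance with e' | e'
    · exact hV1 e'
    · obtain ⟨a, b, hne⟩ := hna
      exact hne (hab a (e' ▸ Subgroup.mem_top a) b (e' ▸ Subgroup.mem_top b))
  have hVN : V ≤ N := Subgroup.le_normalizer
  -- transitivity
  have htrans : ∀ a ∈ V, a ≠ 1 → ∀ b ∈ V, b ≠ 1 → ∃ n ∈ N, n * a * n⁻¹ = b := by
    obtain ⟨M₀, hM₀⟩ : ∃ M₀ : Subgroup G, Cfsg.IsStronglyEmbedded M₀ := by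
      by_cases hX1 : X = ⊥
      · refine ⟨N, stronglyEmbedded_of S hV1 hab hNtop le_rfl fun t ht ht1 x hx => ?_⟩
        obtain ⟨k, hk, g, hg, rfl⟩ := hCXN t ht ht1 x hx
        rw [hX1, Subgroup.mem_bot] at hk
        rw [hk, one_mul]
        exact hg
      · refine ⟨Subgroup.normalizer (X : Set G), stronglyEmbedded_of S hV1 hab (fun e => ?_) hNX fun t ht ht1 x hx => ?_⟩
        · haveI : X.Normal := Subgroup.normalizer_eq_top_iff.1 e
          rcases IsSimpleGroup.eq_bot_or_eq_top_of_normal X inferInstance with e' | e'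
          · exact hX1 e'
          · exact h2q hXq (ho2 t₀ ht₀V ht₀1 ▸ Subgroup.orderOf_dvd_natCard X (e' ▸ Subgroup.mem_top t₀))
        · obtain ⟨k, hk, g, hg, rfl⟩ := hCXN t ht ht1 x hx
          exact mul_mem (Subgroup.le_normalizer hk) (hNX hg)
    exact fun a ha ha1 b hb hb1 => exists_normalizer_conj S hab hM₀ ha hb (ho2 a ha ha1) (ho2 b hb hb1)
  -- the Sylow subgroup centralises the invariant subgroup
  have hcentr : V ≤ Subgroup.centralizer (X : Set G) := by
    obtain ⟨n, hn, hnt⟩ := htrans t₀ ht₀V ht₀1 t₁ ht₁V ht₁1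
    obtain ⟨u, w, e, -, ⟨i, hi⟩, hw, hu', hw'⟩ := exists_split n
    have huV : u ∈ V := mem_sylow_of_normalizer S (Subgroup.zpowers_le.2 hn hu') hi
    have hwc : w ∉ Subgroup.centralizer (V : Set G) := fun hc => by
      refine ht10 (hnt ▸ mul_inv_eq_iff_eq_mul.2 ?_)
      rw [e]
      exact (show Commute (u * w) t₀ from (show Commute u t₀ from hab u huV t₀ ht₀V).mul_left
        (Subgroup.mem_centralizer_iff.1 hc t₀ ht₀V).symm).eq
    obtain ⟨y, hy, hyr, hyc⟩ := h.exists_prime_mover S ht₀V ht₀1 hw hwc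
    have hyn : y ∈ N := (Subgroup.zpowers_le.2 (Subgroup.zpowers_le.2 hn hw')) hy
    have hy2 : orderOf y ≠ 2 := fun e2 => Nat.not_even_iff_odd.2 hw (even_iff_two_dvd.2
      (e2 ▸ orderOf_dvd_of_mem_zpowers hy))
    obtain ⟨v, hv, hvy⟩ : ∃ v ∈ V, v⁻¹ * (y * v * y⁻¹) ≠ 1 := by
      by_contra hno
      push Not at hno
      refine hyc (Subgroup.mem_centralizer_iff.2 fun v hv => ?_)
      exact (mul_inv_eq_iff_eq_mul.1 (inv_mul_eq_one.1 (hno v hv)).symm).symm
    have hd := h.centralizes hyr hy2 rfl hXq S.isPGroup' (hNX hyn) hyn hVX v hv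
    intro b hb
    by_cases hb1 : b = 1
    · exact hb1 ▸ one_mem _
    obtain ⟨g, hg, rfl⟩ := htrans _ (mul_mem (inv_mem hv) ((Subgroup.mem_normalizer_iff.1 hyn v).1 hv)) hvy b hb hb1
    exact (Subgroup.mem_normalizer_iff.1 (normalizer_le_normalizer_centralizer (hNX hg)) _).1 hd
  have hCNV : Subgroup.centralizer (V : Set G) ≤ N := fun x hx => mem_normalizer_of_forall fun v hv => by
    rwa [← Subgroup.mem_centralizer_iff.1 hx v hv, mul_inv_cancel_right]
  have hXC : X ≤ Subgroup.centralizer (V : Set G) := fun x hx =>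
    Subgroup.mem_centralizer_iff.2 fun v hv => (Subgroup.mem_centralizer_iff.1 (hcentr hv) x hx).symm
  have hcent : ∀ t ∈ V, t ≠ 1 → Subgroup.centralizer ({t} : Set G) ≤ N := fun t ht ht1 x hx => by
    obtain ⟨k, hk, g, hg, rfl⟩ := hCXN t ht ht1 x hx
    exact mul_mem (hCNV (hXC hk)) hg
  have hcW : ∀ x ∈ X, x ≠ 1 → Subgroup.centralizer ({x} : Set G) ≤ N := by
    intro x hx hx1 y hy
    have hVx : V ≤ Subgroup.centralizer ({x} : Set G) := fun v hv =>
      memC (Subgroup.mem_centralizer_iff.1 (hcentr hv) x hx).symm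
    obtain ⟨k, hk, g, -, hg, rfl⟩ := (h.two_prime_structure (fun r hr hd =>
      h.cent_primes (Or.inr (h.orderOf_of_mem hXq hx hx1)) hr hd) S hVx).2 y hy
    exact mul_mem (hCNV (hXC (hmax _ h.core_isPGroup
      ((hVx.trans Subgroup.le_normalizer).trans le_normalizer_core) hk))) hg
  refine ⟨X, h, hXq, hmax, hcentr, hNX, fun x hx => ?_, hcent, hcW, fun x hx hx1 y hy => ?_,
    stronglyEmbedded_of S hV1 hab hNtop le_rfl hcent, htrans⟩
  · obtain ⟨u, w, e, hc, ⟨i, hi⟩, hw, hu', hw'⟩ := exists_split x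
    have hwc : w ∈ Subgroup.centralizer (V : Set G) := Subgroup.zpowers_le.2 hx hw'
    refine ⟨w, ?_, u, mem_sylow_of_normalizer S (hCNV (Subgroup.zpowers_le.2 hx hu')) hi, e.trans hc.eq⟩
    refine hmax (Subgroup.zpowers w) ?_ (le_normalizer_of_mem_iff fun v hv z hz => ?_) (Subgroup.mem_zpowers w)
    · refine h.isPGroup_of_odd (X := Subgroup.centralizer ({t₀} : Set G))
        (fun r hr hd => h.cent_primes (Or.inl (ho2 t₀ ht₀V ht₀1)) hr hd) (Subgroup.zpowers_le.2 (memC ?_)) ?_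
      · exact (Subgroup.mem_centralizer_iff.1 hwc t₀ ht₀V).symm
      · rwa [Nat.card_zpowers]
    · rwa [Subgroup.mem_centralizer_iff.1 (Subgroup.zpowers_le.2 hwc hz) v hv, mul_inv_cancel_right]
  · -- the normaliser of a subgroup of order `q` of `X`
    refine mem_normalizer_of_forall fun v hv => ?_
    have h1 : y * v * y⁻¹ ∈ Subgroup.centralizer ({x} : Set G) := by
      obtain ⟨j, hj⟩ := Subgroup.mem_zpowers_iff.1
        ((Subgroup.mem_normalizer_iff.1 (inv_mem hy) x).1 (Subgroup.mem_zpowers x))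
      have hc : Commute v (y⁻¹ * x * y⁻¹⁻¹) := hj ▸ Commute.zpow_right
        (Subgroup.mem_centralizer_iff.1 (hcentr hv) x hx).symm j
      refine memC ?_
      have h2 := hc.map (MulAut.conj y)
      simpa [MulAut.conj_apply, mul_assoc] using h2
    by_cases hv1 : v = 1
    · subst hv1
      simpa using one_mem V
    exact mem_sylow_of_normalizer S (hcW x hx hx1 h1) (k := 1) (by
      rw [pow_one]
      exact (orderOf_injective (MulAut.conj y).toMonoidHom (MulAut.conj y).injective v).trans (ho2 v hv hv1))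

end Cfsg.Agent.Lie.TwoQ
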