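import Cfsg.Agent.Lib.Lie.TwoQ.Large
import Cfsg.Agent.S0071

/-!
# The automiser of the Sylow 2-subgroup

The group `aut S` induced on `S` by its normaliser has odd order, is transitive on involutions, has no element whose
order is a proper multiple of `q`, and has a normal `q`-complement.
-/

set_option autoImplicit false
set_option linter.unusedSectionVars false
set_option linter.style.haveILetI false

namespace Cfsg.Agent.Lie.TwoQ

open Cfsg

universe u

variable {G : Type u} [Group G] [Finite G] {q : ℕ} {S : Sylow 2 G} {W : Subgroup G}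

/-- The conjugation action of the normaliser. -/
abbrev conjHom (S : Sylow 2 G) :
    Subgroup.normalizer ((S : Subgroup G) : Set G) →* MulAut (S : Subgroup G) :=
  (S : Subgroup G).normalizerMonoidHom

/-- The automiser. -/
abbrev aut (S : Sylow 2 G) : Subgroup (MulAut (S : Subgroup G)) := (conjHom S).range

theorem conjHom_eq_one {n : Subgroup.normalizer ((S : Subgroup G) : Set G)} :
    conjHom S n = 1 ↔ (n : G) ∈ Subgroup.centralizer ((S : Subgroup G) : Set G) := by
  constructor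
  · intro e
    refine Subgroup.mem_centralizer_iff.2 fun v hv => ?_
    have h1 : (n : G) * v * (n : G)⁻¹ = v := congrArg Subtype.val (DFunLike.congr_fun e (⟨v, hv⟩ : (S : Subgroup G)))
    exact (mul_inv_eq_iff_eq_mul.1 h1).symm
  · intro hc
    refine MulEquiv.ext fun v => Subtype.ext ?_
    show (n : G) * (v : G) * (n : G)⁻¹ = v
    rw [← Subgroup.mem_centralizer_iff.1 hc v v.2, mul_inv_cancel_right]

variable (hs : Setup q S W)
include hs

theorem Setup.ord2 {v : G} (hv : v ∈ (S : Subgroup G)) (hv1 : v ≠ 1) : orderOf v = 2 :=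
  Solv.CITGroups.orderOf_two_iff.2 ⟨hs.hyp.two_sq S.isPGroup' hv, hv1⟩

/-- A lift of odd order has the same order. -/
theorem Setup.lift_order {n : Subgroup.normalizer ((S : Subgroup G) : Set G)} (hn : Odd (orderOf (n : G)))
    (hn1 : conjHom S n ≠ 1) : orderOf (n : G) = orderOf (conjHom S n) := by
  have hd : orderOf (conjHom S n) ∣ orderOf (n : G) := by
    rw [Subgroup.orderOf_coe]; exact orderOf_map_dvd _ _
  by_cases hq : q ∣ orderOf (n : G)
  · rcases hs.hyp.qord _ hq with e | e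
    · rw [e] at hd ⊢
      exact (((Nat.dvd_prime hs.hyp.prime).1 hd).resolve_left fun e1 => hn1 (orderOf_eq_one_iff.1 e1)).symm
    · exact absurd (e ▸ even_two_mul q) (Nat.not_even_iff_odd.2 hn)
  · refine Nat.dvd_antisymm (orderOf_dvd_of_pow_eq_one ?_) hd
    by_contra hne
    obtain ⟨r, i, hr, hrd, hi⟩ := exists_prime_pow_power hne
    have hrn : r ∣ orderOf (n : G) := hrd.trans (orderOf_pow_dvd _)
    have hmem : (n : G) ^ orderOf (conjHom S n) ∈ Subgroup.centralizer ((S : Subgroup G) : Set G) := by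
      rw [← Subgroup.coe_pow]
      exact conjHom_eq_one.1 (by rw [map_pow, pow_orderOf_eq_one])
    obtain ⟨t, htS, ht1⟩ : ∃ t ∈ (S : Subgroup G), t ≠ 1 := by
      by_contra hno
      push Not at hno
      exact hn1 (MulEquiv.ext fun v => by
        rw [show v = 1 from Subtype.ext (hno v v.2), map_one, map_one])
    exact hs.hyp.no_commute (Or.inl (hs.ord2 htS ht1)) hr
      (fun e => Nat.not_even_iff_odd.2 hn (even_iff_two_dvd.2 (e ▸ hrn))) (fun e => hq (e ▸ hrn)) hi
      ((show Commute t ((n : G) ^ orderOf (conjHom S n)) from Subgroup.mem_centralizer_iff.1 hmem t htS).pow_right i)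

/-- Every element of the automiser lifts to an element of odd order. -/
theorem Setup.exists_lift (g : aut S) : ∃ n : Subgroup.normalizer ((S : Subgroup G) : Set G),
    conjHom S n = g ∧ Odd (orderOf (n : G)) := by
  obtain ⟨n, hn⟩ := g.2
  obtain ⟨u, w, e, -, ⟨k, hk⟩, hw, hu, hw'⟩ := exists_split (n : G)
  have hle : Subgroup.zpowers (n : G) ≤ Subgroup.normalizer ((S : Subgroup G) : Set G) := Subgroup.zpowers_le.2 n.2
  have huS := mem_sylow_of_normalizer S (hle hu) hk
  refine ⟨⟨w, hle hw'⟩, ?_, hw⟩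
  rw [← hn, show n = ⟨u, hle hu⟩ * ⟨w, hle hw'⟩ from Subtype.ext e, map_mul,
    show conjHom S ⟨u, hle hu⟩ = 1 from conjHom_eq_one.2
      (Subgroup.mem_centralizer_iff.2 fun v hv => hs.hyp.two_comm S.isPGroup' hv huS), one_mul]

theorem Setup.aut_odd_order (g : aut S) : Odd (orderOf g) := by
  obtain ⟨n, hn, ho⟩ := hs.exists_lift g
  rw [← Subgroup.orderOf_coe, ← hn]
  exact ho.of_dvd_nat (by rw [Subgroup.orderOf_coe]; exact orderOf_map_dvd _ _)

theorem Setup.aut_odd : Odd (Nat.card (aut S)) := by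
  haveI : Fact (Nat.Prime 2) := ⟨Nat.prime_two⟩
  rw [← Nat.not_even_iff_odd, even_iff_two_dvd]
  intro hd
  obtain ⟨g, hg⟩ := exists_prime_orderOf_dvd_card' 2 hd
  have := hs.aut_odd_order g
  rw [hg] at this
  exact absurd this (by decide)

theorem Setup.aut_q_order {g : aut S} (hq : q ∣ orderOf g) : orderOf g = q := by
  obtain ⟨n, hn, ho⟩ := hs.exists_lift g
  rw [← Subgroup.orderOf_coe, ← hn] at hq ⊢
  have hd : orderOf (conjHom S n) ∣ orderOf (n : G) := by
    rw [Subgroup.orderOf_coe]; exact orderOf_map_dvd _ _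
  rcases hs.hyp.qord _ (hq.trans hd) with e | e
  · exact Nat.dvd_antisymm (e ▸ hd) hq
  · exact absurd (e ▸ even_two_mul q) (Nat.not_even_iff_odd.2 ho)

theorem Setup.aut_fixed {g : aut S} (hg : g ≠ 1) {v : (S : Subgroup G)} (hv : v ≠ 1)
    (hf : (g : MulAut (S : Subgroup G)) v = v) : orderOf g = q := by
  obtain ⟨n, hn, ho⟩ := hs.exists_lift g
  have hne : conjHom S n ≠ 1 := by rw [hn]; exact fun e => hg (Subtype.ext e)
  have hc : Commute (n : G) (v : G) := by
    rw [← hn] at hf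
    exact mul_inv_eq_iff_eq_mul.1 (congrArg Subtype.val hf)
  have hn1 : (n : G) ≠ 1 := fun e => hne (by rw [show n = 1 from Subtype.ext e, map_one])
  obtain ⟨r, i, hr, hrd, hi⟩ := exists_prime_pow_power hn1
  refine hs.aut_q_order ?_
  rw [← Subgroup.orderOf_coe, ← hn, ← hs.lift_order ho hne]
  by_contra hq
  exact hs.hyp.no_commute (Or.inl (hs.ord2 v.2 fun e => hv (Subtype.ext e))) hr
    (fun e => Nat.not_even_iff_odd.2 ho (even_iff_two_dvd.2 (e ▸ hrd))) (fun e => hq (e ▸ hrd)) hi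
    (hc.pow_left i).symm

theorem Setup.aut_trans {a b : (S : Subgroup G)} (ha : a ≠ 1) (hb : b ≠ 1) :
    ∃ g : aut S, (g : MulAut (S : Subgroup G)) a = b := by
  obtain ⟨n, hn, e⟩ := hs.trans a a.2 (fun e => ha (Subtype.ext e)) b b.2 (fun e => hb (Subtype.ext e))
  exact ⟨⟨conjHom S ⟨n, hn⟩, ⟨n, hn⟩, rfl⟩, Subtype.ext e⟩

theorem Setup.aut_no_commute {e k : aut S} (he : orderOf e = q) {r : ℕ} (hr : r.Prime) (hrq : r ≠ q)
    (hk : orderOf k = r) (hc : Commute e k) : False := by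
  have h1 := hc.orderOf_mul_eq_mul_orderOf_of_coprime
    (by rw [he, hk]; exact (Nat.coprime_primes hs.hyp.prime hr).2 hrq.symm)
  have h2 := hs.aut_q_order (g := e * k) (by rw [h1, he]; exact dvd_mul_right q _)
  rw [h1, he, hk] at h2
  exact hr.one_lt.ne' (Nat.eq_of_mul_eq_mul_left hs.hyp.prime.pos (h2.trans (mul_one q).symm))

theorem Setup.aut_qGroup_pow {E : Subgroup (aut S)} (hE : IsPGroup q E) {e : aut S} (he : e ∈ E) (he1 : e ≠ 1) :
    orderOf e = q := by
  haveI := Fact.mk hs.hyp.prime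
  obtain ⟨k, hk⟩ := IsPGroup.iff_orderOf.1 hE ⟨e, he⟩
  rw [Subgroup.orderOf_mk] at hk
  rcases k with _ | k
  · exact absurd (orderOf_eq_one_iff.1 (hk.trans (pow_zero q))) he1
  · exact hs.aut_q_order (hk ▸ dvd_pow_self q k.succ_ne_zero)

open scoped IsMulCommutative in
/-- No element of order a prime other than `q` normalises a nontrivial `q`-subgroup of the automiser. -/
theorem Setup.aut_no_normalize {E : Subgroup (aut S)} (hE : IsPGroup q E) (hE1 : E ≠ ⊥) {g : aut S} {r : ℕ}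
    (hr : r.Prime) (hrq : r ≠ q) (hg : orderOf g = r) (hgE : g ∈ Subgroup.normalizer (E : Set (aut S))) : False := by
  classical
  haveI := Fact.mk hs.hyp.prime
  haveI : Fact (Nat.Prime 2) := ⟨Nat.prime_two⟩
  set Z := (Subgroup.center E).map E.subtype with hZ
  have hZE : Z ≤ E := Subgroup.map_subtype_le _
  haveI hZab : IsMulCommutative Z := ⟨⟨fun x y => by
    obtain ⟨a, ha, ea⟩ := x.2
    obtain ⟨b, hb, eb⟩ := y.2
    refine Subtype.ext ?_
    show (x : aut S) * y = y * x
    rw [← ea, ← eb, ← map_mul, ← map_mul, Subgroup.mem_center_iff.1 hb a]⟩⟩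
  haveI : IsMulCommutative (S : Subgroup G) :=
    ⟨⟨fun x y => Subtype.ext (hs.hyp.two_comm S.isPGroup' x.2 y.2)⟩⟩
  have hgZ : g ∈ Subgroup.normalizer (Z : Set (aut S)) := mem_normalizer_of_forall fun z hz => by
    obtain ⟨a, ha, rfl⟩ := hz
    refine ⟨E.normalizerMonoidHom ⟨g, hgE⟩ a, ?_, rfl⟩
    exact (MulEquivClass.apply_mem_center_iff _).2 ha
  haveI : Nontrivial E := (Subgroup.nontrivial_iff_ne_bot E).2 hE1
  haveI := hE.center_nontrivial
  obtain ⟨⟨z, hz⟩, hz1⟩ := exists_ne (1 : Subgroup.center E)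
  obtain ⟨n, hn, ho⟩ := hs.exists_lift g
  have hne : conjHom S n ≠ 1 := by
    rw [hn]; exact fun e => hr.ne_one (by rw [← hg, ← Subgroup.orderOf_coe, e, orderOf_one])
  have hno : orderOf (n : G) = r := by rw [hs.lift_order ho hne, hn, Subgroup.orderOf_coe, hg]
  have hr2 : r ≠ 2 := fun e => by
    rw [hno, e] at ho
    exact absurd ho (by decide)
  have hN : ∀ v : (S : Subgroup G), ∏ i ∈ Finset.range r, ((g : MulAut (S : Subgroup G)) ^ i) v = 1 := fun v => by
    have h1 := coe_prod_conj (S : Subgroup G) n.2 v r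
    rw [hs.hyp.norm_pow hr hr2 hno n.2 (Or.inr ⟨S.isPGroup', hrq⟩) v v.2, ← hno, pow_orderOf_eq_one, mul_one,
      hno] at h1
    rw [← hn]
    exact Subtype.ext h1
  have hs' : (Z.normalizerMonoidHom ⟨g, hgZ⟩) ^ r = 1 := by
    rw [← map_pow, show (⟨g, hgZ⟩ : Subgroup.normalizer (Z : Set (aut S))) ^ r = 1 from
      Subtype.ext (by rw [Subgroup.coe_pow, ← hg]; exact pow_orderOf_eq_one g), map_one]
  have hco : (Nat.card (S : Subgroup G)).Coprime (Nat.card Z) := by
    obtain ⟨i, hi⟩ := IsPGroup.iff_card.1 S.isPGroup'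
    obtain ⟨j, hj⟩ := IsPGroup.iff_card.1 (hE.to_le hZE)
    rw [hi, hj]
    exact Nat.Coprime.pow i j ((Nat.coprime_primes Nat.prime_two hs.hyp.prime).2 hs.hyp.ne_two.symm)
  set z' : Z := ⟨z, z, hz, rfl⟩ with hz'
  have key : ∀ v : (S : Subgroup G), (((aut S).subtype.comp Z.subtype) (z'⁻¹ * Z.normalizerMonoidHom ⟨g, hgZ⟩ z')) v = v :=
    fixes ((aut S).subtype.comp Z.subtype) (Z.normalizerMonoidHom ⟨g, hgZ⟩) (g : MulAut (S : Subgroup G)) hr hs' hco
      (fun e v => by
        show (g : MulAut (S : Subgroup G)) (((e : aut S) : MulAut (S : Subgroup G)) v) =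
          ((g * (e : aut S) * g⁻¹ : aut S) : MulAut (S : Subgroup G)) ((g : MulAut (S : Subgroup G)) v)
        simp [MulAut.mul_apply])
      hN z'
  have h3 : ((z : E) : aut S)⁻¹ * (g * (z : E) * g⁻¹) = 1 := Subtype.ext (MulEquiv.ext key)
  have hc : Commute g ((z : E) : aut S) := mul_inv_eq_iff_eq_mul.1 (inv_mul_eq_one.1 h3).symm
  exact hs.aut_no_commute (hs.aut_qGroup_pow hE z.2 fun e => hz1 (Subtype.ext (Subtype.ext e))) hr hrq hg hc.symm

/-- The normal `q`-complement of the automiser. -/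
theorem Setup.aut_complement (P : Sylow q (aut S)) :
    ∃ F : Subgroup (aut S), F.Normal ∧ F.IsComplement' (P : Subgroup (aut S)) := by
  haveI := Fact.mk hs.hyp.prime
  refine (S0071.result P).2 fun E hE g hg hco => ?_
  by_cases hE1 : E = ⊥
  · subst hE1
    exact Subgroup.mem_centralizer_iff.2 fun v hv => by rw [Subgroup.mem_bot.1 hv, one_mul, mul_one]
  by_cases hg1 : g = 1
  · exact hg1 ▸ one_mem _
  obtain ⟨r, hr, hd⟩ := Nat.exists_prime_and_dvd (fun e => hg1 (orderOf_eq_one_iff.1 e))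
  exfalso
  refine hs.aut_no_normalize (P.isPGroup'.to_le hE) hE1 hr (fun e => ?_)
    (orderOf_pow_orderOf_div (orderOf_pos g).ne' hd) (Subgroup.pow_mem _ hg _)
  exact hs.hyp.prime.one_lt.ne' (Nat.dvd_one.1 (hco ▸ Nat.dvd_gcd (e ▸ hd) dvd_rfl))

/-- An elementary `q`-group of rank two cannot normalise a nontrivial `q'`-subgroup of the automiser. -/
theorem Setup.aut_rank_two {E K : Subgroup (aut S)} (hE : IsPGroup q E) [IsMulCommutative E] (hEc : ¬ IsCyclic E)
    (hK : ¬ q ∣ Nat.card K) (hK1 : K ≠ ⊥) (hEK : E ≤ Subgroup.normalizer (K : Set (aut S))) : False := by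
  haveI := Fact.mk hs.hyp.prime
  obtain ⟨k, hk⟩ := IsPGroup.iff_card.1 hE
  have hco : (Nat.card E).Coprime (Nat.card K) := hk ▸ (hs.hyp.prime.coprime_iff_not_dvd.2 hK).pow_left k
  have h1 := S0058.result E K hEc hEK hco
  obtain ⟨e, he, he1, y, hy, hy1⟩ : ∃ e ∈ E, e ≠ 1 ∧ ∃ y ∈ K ⊓ Subgroup.centralizer {e}, y ≠ 1 := by
    by_contra hno
    push Not at hno
    refine hK1 (h1 ▸ ?_)
    simp only [iSup_eq_bot]
    exact fun a ha => (Subgroup.eq_bot_iff_forall _).2 (hno a ha.1 ha.2)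
  obtain ⟨r, hr, hd⟩ := Nat.exists_prime_and_dvd (fun e => hy1 (orderOf_eq_one_iff.1 e))
  refine hs.aut_no_commute (hs.aut_qGroup_pow hE he he1) hr (fun e => ?_)
    (orderOf_pow_orderOf_div (orderOf_pos y).ne' hd)
    ((show Commute e y from (Subgroup.mem_centralizer_singleton_iff.1 hy.2).symm).pow_right _)
  exact hK (e ▸ hd.trans (Subgroup.orderOf_dvd_natCard _ hy.1))

end Cfsg.Agent.Lie.TwoQ
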