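import Cfsg.Agent.Lib.Lie.TwoQ.LargeW
import Cfsg.Agent.S0001
import Cfsg.Agent.S3189

/-!
# Sylow 2-subgroups of order at least eight do not occur
-/

set_option autoImplicit false
set_option linter.unusedSectionVars false
set_option linter.style.haveILetI false
set_option maxHeartbeats 800000

namespace Cfsg.Agent.Lie.TwoQ

open Cfsg
open Cfsg.Agent.Fusion.SEPairs
open scoped Pointwise

universe u

theorem conj_mem_zpowers {H : Type*} [Group H] {a g : H} (h : g * a * g⁻¹ ∈ Subgroup.zpowers a) :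
    ∀ y ∈ Subgroup.zpowers a, g * y * g⁻¹ ∈ Subgroup.zpowers a := by
  intro y hy
  obtain ⟨j, rfl⟩ := Subgroup.mem_zpowers_iff.1 hy
  rw [← conj_zpow]
  exact Subgroup.zpow_mem _ h j

section Operators

variable {V : Type*} [CommGroup V] [Finite V]

/-- An operator of order three with few fixed points, normalising a fixed-point-free commutative group of
operators which it moves, leaves at most eight elements. -/
theorem card_le_eight (σ : MulAut V) (hσ : σ ^ 3 = 1) (hfix : Nat.card {v : V // σ v = v} ≤ 2)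
    (b b₁ b₂ : MulAut V) (hb₁ : σ * b = b₁ * σ) (hb₂ : σ * b₁ = b₂ * σ) (h01 : Commute b b₁) (h02 : Commute b b₂)
    (h12 : Commute b₁ b₂) (hf01 : ∀ v, b v = b₁ v → v = 1) (hf02 : ∀ v, b v = b₂ v → v = 1) :
    Nat.card V ≤ 8 := by
  let Fx := {v : V // σ v = v}
  have happ : ∀ v, σ (σ (σ v)) = v := fun v => by
    rw [← MulAut.mul_apply, ← MulAut.mul_apply, show σ * σ * σ = σ ^ 3 by simp [pow_succ, mul_assoc], hσ,
      MulAut.one_apply]
  let N : V → Fx := fun v => ⟨v * σ v * σ (σ v), by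
    rw [map_mul, map_mul, happ, mul_comm (σ v * σ (σ v)) v, mul_assoc]⟩
  let f : V → Fx × Fx × Fx := fun v => (N v, N (b v), N (b (b v)))
  have hf : Function.Injective f := by
    intro v w e
    simp only [f, N, Prod.mk.injEq, Subtype.mk.injEq] at e
    obtain ⟨e0, e1, e2⟩ := e
    rw [← div_eq_one]
    set x := v / w with hx
    have E0 : x * σ x * σ (σ x) = 1 := by
      have : x * σ x * σ (σ x) = (v * σ v * σ (σ v)) / (w * σ w * σ (σ w)) := by
        simp only [hx, map_div, div_mul_div_comm]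
      exact this.trans (div_eq_one.2 (congrArg Subtype.val e0))
    have E1 : b x * σ (b x) * σ (σ (b x)) = 1 := by
      have : b x * σ (b x) * σ (σ (b x)) = (b v * σ (b v) * σ (σ (b v))) / (b w * σ (b w) * σ (σ (b w))) := by
        simp only [hx, map_div, div_mul_div_comm]
      exact this.trans (div_eq_one.2 (congrArg Subtype.val e1))
    have E2 : b (b x) * σ (b (b x)) * σ (σ (b (b x))) = 1 := by
      have : b (b x) * σ (b (b x)) * σ (σ (b (b x))) =
          (b (b v) * σ (b (b v)) * σ (σ (b (b v)))) / (b (b w) * σ (b (b w)) * σ (σ (b (b w)))) := by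
        simp only [hx, map_div, div_mul_div_comm]
      exact this.trans (div_eq_one.2 (congrArg Subtype.val e2))
    have c1 : ∀ u, σ (b u) = b₁ (σ u) := fun u => by rw [← MulAut.mul_apply, hb₁, MulAut.mul_apply]
    have c2 : ∀ u, σ (b₁ u) = b₂ (σ u) := fun u => by rw [← MulAut.mul_apply, hb₂, MulAut.mul_apply]
    have k01 : ∀ u, b (b₁ u) = b₁ (b u) := fun u => by rw [← MulAut.mul_apply, h01.eq, MulAut.mul_apply]
    have k02 : ∀ u, b (b₂ u) = b₂ (b u) := fun u => by rw [← MulAut.mul_apply, h02.eq, MulAut.mul_apply]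
    have k12 : ∀ u, b₁ (b₂ u) = b₂ (b₁ u) := fun u => by rw [← MulAut.mul_apply, h12.eq, MulAut.mul_apply]
    simp only [c1, c2] at E1 E2
    set x₁ := σ x
    set x₂ := σ x₁
    have d1 : (b x / b₂ x) * (b₁ x₁ / b₂ x₁) = 1 := by
      have h0 : b₂ x * b₂ x₁ * b₂ x₂ = 1 := by rw [← map_mul, ← map_mul, E0, map_one]
      rw [div_mul_div_comm, div_eq_one]
      exact mul_right_cancel (b := b₂ x₂) (E1.trans h0.symm)
    have d2 : (b (b x) / b₂ (b x)) * (b₁ (b₁ x₁) / b₂ (b₁ x₁)) = 1 := by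
      have h0 : b₂ (b x) * b₂ (b₁ x₁) * b₂ (b₂ x₂) = 1 := by rw [← map_mul, ← map_mul, E1, map_one]
      rw [div_mul_div_comm, div_eq_one]
      exact mul_right_cancel (b := b₂ (b₂ x₂)) (E2.trans h0.symm)
    rw [← k02 x, ← k12 x₁, ← map_div, ← map_div, eq_inv_of_mul_eq_one_right d1, map_inv, mul_inv_eq_one] at d2
    exact hf02 x (div_eq_one.1 (hf01 _ d2))
  have h1 := Nat.card_le_card_of_injective f hf
  rw [Nat.card_prod, Nat.card_prod] at h1
  have : Nat.card Fx * (Nat.card Fx * Nat.card Fx) ≤ 2 * (2 * 2) := Nat.mul_le_mul hfix (Nat.mul_le_mul hfix hfix)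
  omega

end Operators

variable {G : Type u} [Group G] [Finite G] {q : ℕ} {S : Sylow 2 G} {W : Subgroup G}
variable (hs : Setup q S W)
include hs

theorem Setup.cent_self (hW : W = ⊥) {x : G} (hx : x ∈ Subgroup.centralizer ((S : Subgroup G) : Set G)) :
    x ∈ (S : Subgroup G) := by
  obtain ⟨w, hw, s, hs', rfl⟩ := hs.split x hx
  rw [hW, Subgroup.mem_bot] at hw
  rw [hw, one_mul]
  exact hs'

theorem Setup.exists_centralising : ∃ a t : G, orderOf a = q ∧ t ∈ (S : Subgroup G) ∧ t ≠ 1 ∧ Commute a t := by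
  haveI : Fact (Nat.Prime 2) := ⟨Nat.prime_two⟩
  obtain ⟨x, hx⟩ := hs.hyp.ex
  have hu : orderOf (x ^ q) = 2 := by
    rw [orderOf_pow' _ hs.hyp.prime.ne_zero, hx, Nat.gcd_mul_left_left, Nat.mul_div_cancel _ hs.hyp.prime.pos]
  have hy : orderOf (x ^ 2) = q := by
    rw [orderOf_pow' _ two_ne_zero, hx, Nat.gcd_mul_right_left, Nat.mul_div_cancel_left _ two_pos]
  obtain ⟨T, hT⟩ := (IsPGroup.of_card (n := 1) (by rw [Nat.card_zpowers, hu, pow_one]) :
    IsPGroup 2 (Subgroup.zpowers (x ^ q))).exists_le_sylow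
  obtain ⟨g, hg⟩ := MulAction.exists_smul_eq G T S
  refine ⟨g * x ^ 2 * g⁻¹, g * x ^ q * g⁻¹,
    (orderOf_injective (MulAut.conj g).toMonoidHom (MulAut.conj g).injective _).trans hy, ?_, fun e => ?_,
    ((Commute.refl x).pow_pow 2 q).map (MulAut.conj g)⟩
  · rw [← hg]
    exact ⟨x ^ q, hT (Subgroup.mem_zpowers _), rfl⟩
  · rw [conj_eq_one_iff.1 e, orderOf_one] at hu
    omega

/-- The shape of the automiser. -/
theorem Setup.aut_shape (h8 : 8 ≤ Nat.card (S : Subgroup G)) {ā : aut S} {τ : (S : Subgroup G)} (hā : orderOf ā = q)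
    (hτ : τ ≠ 1) (hfix : (ā : MulAut (S : Subgroup G)) τ = τ) :
    ∃ F : Subgroup (aut S), F.Normal ∧ ¬ q ∣ Nat.card F ∧
      Nat.card F + 1 = Nat.card (S : Subgroup G) ∧ Nat.card (aut S) = Nat.card F * q ∧
      (∀ g : aut S, (g : MulAut (S : Subgroup G)) τ = τ → g ∈ Subgroup.zpowers ā) ∧
      (∀ g : aut S, g * ā * g⁻¹ ∈ Subgroup.zpowers ā → g ∈ Subgroup.zpowers ā) := by
  classical
  haveI := Fact.mk hs.hyp.prime
  set A := Subgroup.zpowers ā with hA
  have hAq : IsPGroup q A := IsPGroup.of_card (n := 1) (by rw [Nat.card_zpowers, hā, pow_one])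
  obtain ⟨P, hAP⟩ := hAq.exists_le_sylow
  obtain ⟨F, hF, hc⟩ := hs.aut_complement P
  have hFq : ¬ q ∣ Nat.card F := by
    rw [← hc.index_eq_card]
    exact P.not_dvd_index
  have hā1 : ā ≠ 1 := fun e => by rw [e, orderOf_one] at hā; exact hs.hyp.prime.one_lt.ne hā
  have hF1 : F ≠ ⊥ := fun e => by
    subst e
    refine hā1 (hs.qgroup_free h8 ?_ ā τ hτ hfix)
    exact P.isPGroup'.of_equiv ((MulEquiv.subgroupCongr (Subgroup.isComplement'_bot_left.1 hc)).trans Subgroup.topEquiv)
  -- the Sylow subgroup has order `q`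
  have hPA : (P : Subgroup (aut S)) = A := by
    refine le_antisymm (fun y hy => ?_) hAP
    by_contra hyA
    have hāP : ā ∈ (P : Subgroup (aut S)) := hAP (Subgroup.mem_zpowers ā)
    haveI : Nontrivial (P : Subgroup (aut S)) :=
      ⟨⟨⟨ā, hāP⟩, 1, fun e => hā1 (congrArg Subtype.val e)⟩⟩
    haveI := P.isPGroup'.center_nontrivial
    obtain ⟨⟨z, hz⟩, hz1⟩ := _root_.exists_ne (1 : Subgroup.center (P : Subgroup (aut S)))
    have hz' : orderOf (z : aut S) = q := hs.aut_qGroup_pow P.isPGroup' z.2 fun e => hz1 (Subtype.ext (Subtype.ext e))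
    obtain ⟨y', hy', hyz⟩ : ∃ y' ∈ (P : Subgroup (aut S)), y' ∉ Subgroup.zpowers (z : aut S) := by
      by_contra hno
      push Not at hno
      have hP : Nat.card (P : Subgroup (aut S)) ≤ q :=
        (Nat.le_of_dvd Nat.card_pos (Subgroup.card_dvd_of_le hno)).trans (by rw [Nat.card_zpowers, hz'])
      exact hyA ((Subgroup.eq_of_le_of_card_ge hAP (by rw [Nat.card_zpowers, hā]; exact hP)).ge hy)
    set E := Subgroup.closure ({(z : aut S), y'} : Set (aut S)) with hE
    have hEP : E ≤ P := (Subgroup.closure_le _).2 (by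
      intro e he
      rcases he with e' | e'
      · rw [e']; exact z.2
      · rw [Set.mem_singleton_iff.1 e']; exact hy')
    have hzy : Commute (z : aut S) y' := (congrArg Subtype.val (Subgroup.mem_center_iff.1 hz ⟨y', hy'⟩)).symm
    haveI : IsMulCommutative E := Subgroup.isMulCommutative_closure (by
      intro a ha b hb
      rcases ha with rfl | ha <;> rcases hb with rfl | hb
      · rfl
      · rw [Set.mem_singleton_iff.1 hb]; exact hzy.eq
      · rw [Set.mem_singleton_iff.1 ha]; exact hzy.eq.symm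
      · rw [Set.mem_singleton_iff.1 ha, Set.mem_singleton_iff.1 hb])
    refine hs.aut_rank_two (E := E) (P.isPGroup'.to_le hEP) (fun hcy => ?_) hFq hF1
      (by rw [@Subgroup.normalizer_eq_top _ _ _ hF]; exact le_top)
    obtain ⟨g, hg⟩ := hcy.exists_generator
    have hEc : Nat.card E ≤ q := by
      rw [← orderOf_eq_card_of_forall_mem_zpowers hg, ← Subgroup.orderOf_coe]
      by_cases hg1 : (g : aut S) = 1
      · rw [hg1, orderOf_one]; exact hs.hyp.prime.one_lt.le
      · exact (hs.aut_qGroup_pow P.isPGroup' (hEP g.2) hg1).le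
    exact hyz ((Subgroup.eq_of_le_of_card_ge (Subgroup.zpowers_le.2 (Subgroup.subset_closure (Set.mem_insert _ _)))
      (by rw [Nat.card_zpowers, hz']; exact hEc)).ge (Subgroup.subset_closure (Set.mem_insert_of_mem _ (Set.mem_singleton _))))
  have hcard : Nat.card (aut S) = Nat.card F * q := by
    rw [← hc.card_mul, hPA, Nat.card_zpowers, hā]
  -- the stabiliser
  set St := MulAction.stabilizer (aut S) τ with hSt
  have hAS : A ≤ St := Subgroup.zpowers_le.2 hfix
  have hStq : IsPGroup q St := IsPGroup.iff_orderOf.2 fun g => by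
    by_cases hg : (g : aut S) = 1
    · exact ⟨0, by rw [← Subgroup.orderOf_coe, hg, orderOf_one, pow_zero]⟩
    · exact ⟨1, by rw [← Subgroup.orderOf_coe, hs.aut_fixed hg hτ g.2, pow_one]⟩
  have hStA : St = A := by
    obtain ⟨P', hP'⟩ := hStq.exists_le_sylow
    refine (Subgroup.eq_of_le_of_card_ge hAS ?_).symm
    refine (Nat.le_of_dvd Nat.card_pos (Subgroup.card_dvd_of_le hP')).trans (le_of_eq ?_)
    rw [← hPA, P'.card_eq_multiplicity, P.card_eq_multiplicity]
  refine ⟨F, hF, hFq, ?_, hcard, fun g hg => hStA.le hg, fun g hg => ?_⟩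
  · haveI := Fintype.ofFinite (S : Subgroup G)
    have horb : MulAction.orbit (aut S) τ = {v | v ≠ 1} := by
      refine Set.ext fun v => ⟨?_, fun hv => ?_⟩
      · rintro ⟨g, rfl⟩ e
        exact hτ ((g : MulAut (S : Subgroup G)).injective (e.trans (map_one _).symm))
      · obtain ⟨g, hg⟩ := hs.aut_trans hτ hv
        exact ⟨g, hg⟩
    have h1 := Nat.card_congr (MulAction.orbitProdStabilizerEquivGroup (aut S) τ)
    rw [Nat.card_prod, ← hSt, hStA, Nat.card_zpowers, hā, hcard] at h1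
    have h2 := Nat.eq_of_mul_eq_mul_right hs.hyp.prime.pos h1
    rw [← h2, horb, Nat.card_eq_fintype_card,
      show Fintype.card {v : (S : Subgroup G) | v ≠ 1} = Fintype.card {v : (S : Subgroup G) // ¬ v = 1} from rfl,
      Fintype.card_subtype_compl, Fintype.card_subtype_eq, ← Nat.card_eq_fintype_card]
    omega
  · have hm : g ∈ (↑(F ⊔ (P : Subgroup (aut S))) : Set (aut S)) := by
      rw [hc.sup_eq_top]; trivial
    rw [Subgroup.normal_mul] at hm
    obtain ⟨f, hf, p, hp, rfl⟩ := Set.mem_mul.1 hm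
    have hp' : p ∈ A := hPA.le hp
    have hpc : p * ā * p⁻¹ = ā := by
      obtain ⟨j, rfl⟩ := Subgroup.mem_zpowers_iff.1 hp'
      rw [((Commute.refl ā).zpow_left j).eq, mul_inv_cancel_right]
    rw [show f * p * ā * (f * p)⁻¹ = f * (p * ā * p⁻¹) * f⁻¹ by group, hpc] at hg
    have hcm : f * ā * f⁻¹ * ā⁻¹ = 1 := by
      refine Subgroup.disjoint_def.1 hc.disjoint (x := f * ā * f⁻¹ * ā⁻¹) ?_ (hPA.ge ?_)
      · rw [show f * ā * f⁻¹ * ā⁻¹ = f * (ā * f⁻¹ * ā⁻¹) by group]
        exact F.mul_mem hf (hF.conj_mem _ (F.inv_mem hf) _)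
      · exact A.mul_mem hg (A.inv_mem (Subgroup.mem_zpowers ā))
    refine A.mul_mem ?_ hp'
    by_cases hf1 : f = 1
    · exact hf1 ▸ one_mem _
    obtain ⟨r, hr, hd⟩ := Nat.exists_prime_and_dvd (fun e => hf1 (orderOf_eq_one_iff.1 e))
    exfalso
    refine hs.aut_no_commute hā hr (fun e => hFq (e ▸ hd.trans (Subgroup.orderOf_dvd_natCard _ hf)))
      (orderOf_pow_orderOf_div (orderOf_pos f).ne' hd) ?_
    exact (show Commute f ā from mul_inv_eq_iff_eq_mul.1 (mul_inv_eq_one.1 hcm)).symm.pow_right _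

theorem Setup.false_of_W_bot [IsSimpleGroup G] (hna : ∃ a b : G, a * b ≠ b * a) (h8 : 8 ≤ Nat.card (S : Subgroup G))
    (hW : W = ⊥) : False := by
  classical
  haveI : Fact (Nat.Prime 2) := ⟨Nat.prime_two⟩
  haveI := Fact.mk hs.hyp.prime
  have h := hs.hyp
  set N := Subgroup.normalizer ((S : Subgroup G) : Set G) with hN
  set x₀ : G ⧸ N := ((1 : G) : G ⧸ N) with hx₀
  obtain ⟨a, t, hao, htS, ht1, hat⟩ := hs.exists_centralising
  have ht2 : orderOf t = 2 := hs.ord2 htS ht1
  have hqodd : Odd q := h.prime.odd_of_ne_two h.ne_two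
  have haN : a ∈ N := hs.cent t htS ht1 (memC hat)
  have htN : t ∈ N := Subgroup.le_normalizer htS
  have ha1 : a ≠ 1 := fun e => by rw [e, orderOf_one] at hao; exact h.prime.one_lt.ne hao
  have hSodd : ∀ x ∈ (S : Subgroup G), Odd (orderOf x) → x = 1 := fun x hx ho => by
    by_contra hx1
    rw [hs.ord2 hx hx1] at ho
    exact absurd ho (by decide)
  have hker : ∀ n : N, conjHom S n = 1 → (n : G) ∈ (S : Subgroup G) := fun n hn => hs.cent_self hW (conjHom_eq_one.1 hn)
  set π := (conjHom S).rangeRestrict with hπ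
  have hπS : ∀ n : N, π n = 1 → (n : G) ∈ (S : Subgroup G) := fun n hn => hker n (congrArg Subtype.val hn)
  have hπS' : ∀ s : N, (s : G) ∈ (S : Subgroup G) → π s = 1 := fun s hs' => Subtype.ext (conjHom_eq_one.2
    (Subgroup.mem_centralizer_iff.2 fun v hv => h.two_comm S.isPGroup' hv hs'))
  set aN : N := ⟨a, haN⟩
  set ā := π aN with hā'
  have hāo : orderOf ā = q := by
    have h1 : orderOf ā ∣ q := by
      rw [← hao, show orderOf a = orderOf aN from (Subgroup.orderOf_coe aN)]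
      exact orderOf_map_dvd _ _
    refine ((Nat.dvd_prime h.prime).1 h1).resolve_left fun e => ha1 (hSodd a ?_ (hao ▸ hqodd))
    exact hπS aN (orderOf_eq_one_iff.1 e)
  set τ : (S : Subgroup G) := ⟨t, htS⟩
  have hτ : τ ≠ 1 := fun e => ht1 (congrArg Subtype.val e)
  have hfix : (ā : MulAut (S : Subgroup G)) τ = τ := Subtype.ext (mul_inv_eq_iff_eq_mul.2 hat.eq)
  obtain ⟨F, hFn, hFq, hFc, hHc, hstab, hnorm⟩ := hs.aut_shape h8 hāo hτ hfix
  -- the centraliser of `a` in the Sylow subgroup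
  have hCS : ∀ s ∈ (S : Subgroup G), Commute a s → s = 1 ∨ s = t := by
    intro s hs' hc
    by_cases hs1 : s = 1
    · exact Or.inl hs1
    refine Or.inr ?_
    obtain ⟨g, hg⟩ := hs.aut_trans hτ (b := ⟨s, hs'⟩) (fun e => hs1 (congrArg Subtype.val e))
    have h1 : g⁻¹ * ā * g ∈ Subgroup.zpowers ā := by
      refine hstab _ ?_
      show ((g : MulAut (S : Subgroup G))⁻¹ * (ā : MulAut (S : Subgroup G)) * g) τ = τ
      rw [MulAut.mul_apply, MulAut.mul_apply, hg,
        show (ā : MulAut (S : Subgroup G)) ⟨s, hs'⟩ = ⟨s, hs'⟩ from Subtype.ext (mul_inv_eq_iff_eq_mul.2 hc.eq), ← hg]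
      exact (g : MulAut (S : Subgroup G)).symm_apply_apply τ
    have h2 : g⁻¹ ∈ Subgroup.zpowers ā := hnorm _ (by rwa [inv_inv])
    have h3 : g ∈ Subgroup.zpowers ā := by simpa using Subgroup.inv_mem _ h2
    obtain ⟨j, hj⟩ := Subgroup.mem_zpowers_iff.1 h3
    have h4 : (g : MulAut (S : Subgroup G)) τ = τ :=
      (Subgroup.zpowers_le.2 hfix : Subgroup.zpowers ā ≤ MulAction.stabilizer (aut S) τ) h3
    exact (congrArg Subtype.val (hg.symm.trans h4))
  have hCM : ∀ m ∈ N, Commute m a → ∃ j : ℤ, m = a ^ j ∨ m = a ^ j * t := by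
    intro m hm hc
    have h1 : π ⟨m, hm⟩ ∈ Subgroup.zpowers ā := by
      refine hnorm _ ?_
      rw [hā', ← map_inv, ← map_mul, ← map_mul,
        show (⟨m, hm⟩ : N) * aN * ⟨m, hm⟩⁻¹ = aN from Subtype.ext (mul_inv_eq_iff_eq_mul.2 hc.eq)]
      exact Subgroup.mem_zpowers _
    obtain ⟨j, hj⟩ := Subgroup.mem_zpowers_iff.1 h1
    have h2 : ((aN ^ j)⁻¹ * ⟨m, hm⟩ : N).1 ∈ (S : Subgroup G) :=
      hπS _ (by rw [map_mul, map_inv, map_zpow, ← hā', hj, inv_mul_cancel])
    refine ⟨j, (hCS _ h2 ?_).imp (fun e => ?_) fun e => ?_⟩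
    · show Commute a ((a ^ j)⁻¹ * m)
      exact ((Commute.refl a).zpow_right j).inv_right.mul_right hc.symm
    · rw [← mul_inv_cancel_left (a ^ j) m, show (a ^ j)⁻¹ * m = 1 from e, mul_one]
    · rw [← mul_inv_cancel_left (a ^ j) m, show (a ^ j)⁻¹ * m = t from e]
  -- two-subgroups of the centraliser of `a`
  set C := Subgroup.centralizer ({a} : Set G) with hC
  have htC : t ∈ C := memC hat.symm
  have hTwo : ∀ T : Subgroup G, IsPGroup 2 T → T ≤ C → t ∈ T → T ≤ Subgroup.zpowers t := by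
    intro T hT hTC htT x hx
    have hxN : x ∈ N := hs.cent t htS ht1 (memC (h.two_comm hT hx htT))
    obtain ⟨i, hi⟩ := IsPGroup.iff_orderOf.1 hT ⟨x, hx⟩
    rw [Subgroup.orderOf_mk] at hi
    rcases hCS x (mem_sylow_of_normalizer S hxN hi) (commute_of_memC (hTC hx)).symm with e | e
    · exact e ▸ one_mem _
    · exact e ▸ Subgroup.mem_zpowers t
  have hTwo' : ∀ T : Subgroup G, IsPGroup 2 T → T ≤ C → Nat.card T ≤ 2 := by
    intro T hT hTC
    have htp : IsPGroup 2 ((Subgroup.zpowers t).subgroupOf C) :=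
      (IsPGroup.of_card (n := 1) (by rw [Nat.card_zpowers, ht2, pow_one]) : IsPGroup 2 (Subgroup.zpowers t)).comap_subtype
    obtain ⟨Q, hQ⟩ := htp.exists_le_sylow
    obtain ⟨Q', hQ'⟩ := (hT.comap_subtype (K := C)).exists_le_sylow
    have h1 : Nat.card ((Q : Subgroup C).map C.subtype) ≤ 2 := by
      refine (Nat.le_of_dvd Nat.card_pos (Subgroup.card_dvd_of_le
        (hTwo _ (Q.isPGroup'.map _) (Subgroup.map_subtype_le _) ⟨⟨t, htC⟩, hQ (Subgroup.mem_zpowers t), rfl⟩))).trans ?_
      rw [Nat.card_zpowers, ht2]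
    rw [Subgroup.card_map_of_injective C.subtype_injective, Q.card_eq_multiplicity] at h1
    have h2 := Nat.le_of_dvd Nat.card_pos (Subgroup.card_dvd_of_le hQ')
    rw [Q'.card_eq_multiplicity] at h2
    have h3 : Nat.card (T.subgroupOf C) = Nat.card T := Nat.card_congr (Subgroup.subgroupOfEquivOfLe hTC).toEquiv
    rw [← h3]
    exact h2.trans h1
  have hconjC : ∀ i ∈ C, orderOf i = 2 → ∃ c ∈ C, c * i * c⁻¹ = t := by
    intro i hi hio
    have hip : IsPGroup 2 ((Subgroup.zpowers i).subgroupOf C) :=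
      (IsPGroup.of_card (n := 1) (by rw [Nat.card_zpowers, hio, pow_one]) : IsPGroup 2 (Subgroup.zpowers i)).comap_subtype
    have htp : IsPGroup 2 ((Subgroup.zpowers t).subgroupOf C) :=
      (IsPGroup.of_card (n := 1) (by rw [Nat.card_zpowers, ht2, pow_one]) : IsPGroup 2 (Subgroup.zpowers t)).comap_subtype
    obtain ⟨Q, hQ⟩ := htp.exists_le_sylow
    obtain ⟨Q', hQ'⟩ := hip.exists_le_sylow
    obtain ⟨c, hc⟩ := MulAction.exists_smul_eq C Q' Q
    refine ⟨c, c.2, ?_⟩
    have h1 : (c : G) * i * (c : G)⁻¹ ∈ (Q : Subgroup C).map C.subtype := by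
      refine ⟨c * ⟨i, hi⟩ * c⁻¹, ?_, rfl⟩
      rw [← hc]
      exact ⟨⟨i, hi⟩, hQ' (Subgroup.mem_zpowers i), rfl⟩
    obtain ⟨j, hj⟩ := Subgroup.mem_zpowers_iff.1 (hTwo _ (Q.isPGroup'.map _) (Subgroup.map_subtype_le _)
      ⟨⟨t, htC⟩, hQ (Subgroup.mem_zpowers t), rfl⟩ h1)
    rcases Int.even_or_odd' j with ⟨l, rfl | rfl⟩
    · rw [zpow_mul, show t ^ (2 : ℤ) = 1 by rw [zpow_ofNat, pow_two]; exact sq_one ht2, one_zpow] at hj
      rw [conj_eq_one_iff.1 hj.symm, orderOf_one] at hio
      omega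
    · rw [zpow_add, zpow_mul, show t ^ (2 : ℤ) = 1 by rw [zpow_ofNat, pow_two]; exact sq_one ht2, one_zpow, one_mul,
        zpow_one] at hj
      exact hj.symm
  have hNa : ∀ w : G, w * a * w⁻¹ ∈ Subgroup.zpowers a → Commute w a := by
    intro w hw
    have hwn : w ∈ Subgroup.normalizer (Subgroup.zpowers a : Set G) := mem_normalizer_of_forall (conj_mem_zpowers hw)
    have hCn : w ∈ Subgroup.normalizer (Subgroup.centralizer (Subgroup.zpowers a : Set G) : Set G) :=
      normalizer_le_normalizer_centralizer hwn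
    have htC' : t ∈ Subgroup.centralizer (Subgroup.zpowers a : Set G) := Subgroup.mem_centralizer_iff.2 fun y hy => by
      obtain ⟨j, rfl⟩ := Subgroup.mem_zpowers_iff.1 hy
      exact (hat.zpow_left j).eq
    have hti : w * t * w⁻¹ ∈ C := memC
      (Subgroup.mem_centralizer_iff.1 ((Subgroup.mem_normalizer_iff.1 hCn t).1 htC') a (Subgroup.mem_zpowers a)).symm
    obtain ⟨c, hc, e⟩ := hconjC _ hti (conj_involution ht2 w)
    have hcw : Commute (c * w) t := mul_inv_eq_iff_eq_mul.1
      (by rw [show c * w * t * (c * w)⁻¹ = c * (w * t * w⁻¹) * c⁻¹ by group, e])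
    have hm : c * w ∈ N := hs.cent t htS ht1 (memC hcw)
    have hcwa : c * w * a * (c * w)⁻¹ ∈ Subgroup.zpowers a := by
      obtain ⟨j, hj⟩ := Subgroup.mem_zpowers_iff.1 hw
      rw [show c * w * a * (c * w)⁻¹ = c * (w * a * w⁻¹) * c⁻¹ by group, ← hj, ← conj_zpow,
        (commute_of_memC hc).eq, mul_inv_cancel_right]
      exact Subgroup.zpow_mem_zpowers a j
    have h1 : π ⟨c * w, hm⟩ ∈ Subgroup.zpowers ā := by
      refine hnorm _ ?_
      rw [hā', ← map_inv, ← map_mul, ← map_mul]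
      obtain ⟨j, hj⟩ := Subgroup.mem_zpowers_iff.1 hcwa
      rw [show (⟨c * w, hm⟩ : N) * aN * ⟨c * w, hm⟩⁻¹ = aN ^ j from Subtype.ext hj.symm, map_zpow]
      exact Subgroup.zpow_mem_zpowers _ j
    obtain ⟨i, hi⟩ := Subgroup.mem_zpowers_iff.1 h1
    set s : G := (a ^ i)⁻¹ * (c * w) with hsdef
    have hsS : s ∈ (S : Subgroup G) := hπS ((aN ^ i)⁻¹ * ⟨c * w, hm⟩)
      (by rw [map_mul, map_inv, map_zpow, ← hā', hi, inv_mul_cancel])
    have hsa : s * a * s⁻¹ * a⁻¹ = 1 := by
      obtain ⟨j, hj⟩ := Subgroup.mem_zpowers_iff.1 hcwa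
      refine hSodd _ ?_ ?_
      · rw [show s * a * s⁻¹ * a⁻¹ = s * (a * s⁻¹ * a⁻¹) by group]
        exact mul_mem hsS ((Subgroup.mem_normalizer_iff.1 haN _).1 (inv_mem hsS))
      · rw [hsdef, show (a ^ i)⁻¹ * (c * w) * a * ((a ^ i)⁻¹ * (c * w))⁻¹ * a⁻¹ =
          (a ^ i)⁻¹ * (c * w * a * (c * w)⁻¹) * a ^ i * a⁻¹ by group, ← hj, ← zpow_neg, ← zpow_add, ← zpow_add,
          ← zpow_neg_one a, ← zpow_add]
        refine (hao ▸ hqodd : Odd (orderOf a)).of_dvd_nat (orderOf_dvd_of_pow_eq_one ?_)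
        rw [← zpow_natCast, ← zpow_mul, mul_comm, zpow_mul, zpow_natCast, pow_orderOf_eq_one, one_zpow]
    have hsc : Commute s a := mul_inv_eq_iff_eq_mul.1 (mul_inv_eq_one.1 hsa)
    have : w = c⁻¹ * a ^ i * s := by rw [hsdef]; group
    rw [this]
    exact ((commute_of_memC hc).inv_left.mul_left ((Commute.refl a).zpow_left i)).mul_left hsc
  -- points fixed by `a`
  have hax₀ : a • x₀ = x₀ := Solv.CITGroups.fix_iff.2 haN
  have hnotle : ¬ C ≤ N := by
    intro hle
    obtain ⟨Q, hQ⟩ := (IsPGroup.of_card (n := 1) (by rw [Nat.card_zpowers, hao, pow_one]) :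
      IsPGroup q (Subgroup.zpowers a)).exists_le_sylow
    have hQa : (Q : Subgroup G) = Subgroup.zpowers a := by
      by_contra hne
      obtain ⟨x, hx, hxn, hxa⟩ := exists_mem_normalizer Q.isPGroup' hQ (Ne.symm hne)
      have hc := hNa x ((Subgroup.mem_normalizer_iff.1 hxn a).1 (Subgroup.mem_zpowers a))
      obtain ⟨j, rfl | rfl⟩ := hCM x (hle (memC hc)) hc
      · exact hxa (Subgroup.zpow_mem_zpowers a j)
      · have h1 : t ∈ (Q : Subgroup G) := by
          simpa using mul_mem (inv_mem (hQ (Subgroup.zpow_mem_zpowers a j))) hx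
        exact h.ne_two ((h.orderOf_of_mem Q.isPGroup' h1 ht1).symm.trans ht2)
    have hQc : Nat.card (Q : Subgroup G) = q := by rw [hQa, Nat.card_zpowers, hao]
    refine Small.SmallOrders.false_of_central Q (by rw [hQc]; exact h.prime.one_lt) ?_ fun w hw => ?_
    · refine lt_of_le_of_ne (Nat.le_of_dvd Nat.card_pos (Subgroup.card_subgroup_dvd_card _)) fun e => ?_
      have h2 := orderOf_dvd_natCard t
      rw [ht2, ← e, hQc] at h2
      exact h.ne_two ((Nat.prime_dvd_prime_iff_eq Nat.prime_two h.prime).1 h2).symm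
    · have hc := hNa w (hQa ▸ (Subgroup.mem_normalizer_iff.1 hw a).1 (hQa ▸ Subgroup.mem_zpowers a))
      refine Subgroup.mem_centralizer_iff.2 fun y hy => ?_
      rw [SetLike.mem_coe, hQa] at hy
      obtain ⟨j, rfl⟩ := Subgroup.mem_zpowers_iff.1 hy
      exact (hc.zpow_right j).eq.symm
  have hprC : ∀ r : ℕ, r.Prime → r ∣ Nat.card C → r = 2 ∨ r = q := fun r hr hd => h.cent_primes (Or.inr hao) hr hd
  -- the stabiliser of a second point
  have hpair : ∀ y : G ⧸ N, y ≠ x₀ → a • y = y →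
      (∀ d ∈ N ⊓ MulAction.stabilizer G y, d ∈ (S : Subgroup G) → d = 1) ∧
      ∀ g : aut S, ∃ n : N, (n : G) ∈ N ⊓ MulAction.stabilizer G y ∧ π n = g := by
    intro y hy hay
    refine ⟨fun d hd hdS => ?_, fun g => ?_⟩
    · obtain ⟨g, rfl⟩ := QuotientGroup.mk_surjective y
      have hgN : g ∉ N := fun e => hy (QuotientGroup.eq.2 (by rw [mul_one]; exact inv_mem e))
      exact hSodd d hdS ((hs.se.2.2 g hgN).of_dvd_nat (Subgroup.orderOf_dvd_natCard _ (Subgroup.mem_inf.2 ⟨hd.1,
        g⁻¹ * d * g, smul_mk_eq_iff.1 hd.2, show g * (g⁻¹ * d * g) * g⁻¹ = d by group⟩)))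
    · set b : (S : Subgroup G) := (g : MulAut (S : Subgroup G)) τ
      have hb1 : (b : G) ≠ 1 := fun e => hτ ((g : MulAut (S : Subgroup G)).injective
        ((show b = 1 from Subtype.ext e).trans (map_one _).symm))
      obtain ⟨d, hdx, hdy, hd⟩ := pair_transitive hs.se hy ht2 (Solv.CITGroups.fix_iff.2 htN)
        (hs.ord2 b.2 hb1) (Solv.CITGroups.fix_iff.2 (Subgroup.le_normalizer b.2))
      have hdN : d ∈ N := Solv.CITGroups.fix_iff.1 hdx
      have h1 : g⁻¹ * π ⟨d, hdN⟩ ∈ Subgroup.zpowers ā := by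
        refine hstab _ ?_
        show ((g : MulAut (S : Subgroup G))⁻¹ * conjHom S ⟨d, hdN⟩) τ = τ
        rw [MulAut.mul_apply, show conjHom S ⟨d, hdN⟩ τ = b from Subtype.ext hd]
        exact (g : MulAut (S : Subgroup G)).symm_apply_apply τ
      obtain ⟨j, hj⟩ := Subgroup.mem_zpowers_iff.1 h1
      refine ⟨⟨d, hdN⟩ * (aN ^ j)⁻¹, Subgroup.mul_mem _ (Subgroup.mem_inf.2 ⟨hdN, MulAction.mem_stabilizer_iff.2 hdy⟩)
        (Subgroup.inv_mem _ (Subgroup.zpow_mem _ (Subgroup.mem_inf.2 ⟨haN, MulAction.mem_stabilizer_iff.2 hay⟩) j)), ?_⟩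
      rw [map_mul, map_inv, map_zpow, ← hā', hj]
      group
  -- at most three fixed points
  have hinj : ∀ y : G ⧸ N, y ≠ x₀ → a • y = y → ∀ d d' : N, (d : G) ∈ N ⊓ MulAction.stabilizer G y →
      (d' : G) ∈ N ⊓ MulAction.stabilizer G y → π d = π d' → d = d' := fun y hy hay d d' hd hd' e => by
    have h1 : (d⁻¹ * d' : N).1 ∈ (S : Subgroup G) := hπS _ (by rw [map_mul, map_inv, e, inv_mul_cancel])
    have h2 := (hpair y hy hay).1 _ (Subgroup.mul_mem _ (Subgroup.inv_mem _ hd) hd') h1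
    exact inv_mul_eq_one.1 (Subtype.ext h2)
  have hswap : ∀ y z : G ⧸ N, y ≠ x₀ → a • y = y → z ≠ x₀ → a • z = z →
      N ⊓ MulAction.stabilizer G y ≤ MulAction.stabilizer G z →
      ∃ w : G, orderOf w = 2 ∧ w • x₀ = z ∧
        w ∈ Subgroup.normalizer ((N ⊓ MulAction.stabilizer G y : Subgroup G) : Set G) := by
    intro y z hy hay hz haz hle
    have hpos : 0 < Nat.card {i : G // orderOf i = 2 ∧ i • x₀ = z} := by
      rw [card_swappers hs.se (Ne.symm hz)]
      haveI : Nonempty {i : G // orderOf i = 2 ∧ i • x₀ = x₀} := ⟨⟨t, ht2, Solv.CITGroups.fix_iff.2 htN⟩⟩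
      exact Nat.card_pos
    obtain ⟨⟨w, hw, hwz⟩⟩ := (Nat.card_pos_iff.1 hpos).1
    have heq : N ⊓ MulAction.stabilizer G z = N ⊓ MulAction.stabilizer G y := by
      refine le_antisymm (fun d hd => ?_) fun d hd => ⟨hd.1, hle hd⟩
      obtain ⟨n, hn, e⟩ := (hpair y hy hay).2 (π ⟨d, hd.1⟩)
      have h1 : (n : G) = d := congrArg Subtype.val (hinj z hz haz n ⟨d, hd.1⟩ ⟨hn.1, hle hn⟩ hd e)
      rw [← h1]
      exact hn
    refine ⟨w, hw, hwz, mem_normalizer_of_forall fun d hd => heq.le ?_⟩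
    have hd' : d • z = z := hle hd
    have hd0 : d • x₀ = x₀ := Solv.CITGroups.fix_iff.2 hd.1
    refine ⟨Solv.CITGroups.fix_iff.1 ?_, MulAction.mem_stabilizer_iff.2 ?_⟩
    · show (w * d * w⁻¹) • x₀ = x₀
      rw [inv_self hw, mul_smul, mul_smul, hwz, hd', Solv.CITGroups.swap_back hw hwz]
    · show (w * d * w⁻¹) • z = z
      rw [inv_self hw, mul_smul, mul_smul, Solv.CITGroups.swap_back hw hwz, hd0, hwz]
  -- elements of `D` of order prime to `q`
  have hFD : ∀ y : G ⧸ N, y ≠ x₀ → a • y = y → ∃ K : Subgroup G, K ≤ N ⊓ MulAction.stabilizer G y ∧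
      (∀ x ∈ N ⊓ MulAction.stabilizer G y, ¬ q ∣ orderOf x → x ∈ K) ∧ (∀ x ∈ K, ¬ q ∣ orderOf x) ∧
      ¬ q ∣ Nat.card K ∧ (∀ f ∈ F, ∃ n : N, (n : G) ∈ K ∧ π n = f) ∧
      Subgroup.normalizer ((N ⊓ MulAction.stabilizer G y : Subgroup G) : Set G) ≤ Subgroup.normalizer (K : Set G) := by
    intro y hy hay
    set D := N ⊓ MulAction.stabilizer G y with hD
    set K := ((D.subgroupOf N) ⊓ F.comap π).map N.subtype with hK
    have horder : ∀ n : N, (n : G) ∈ D → orderOf (n : G) = orderOf (π n) := fun n hn => by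
      rw [Subgroup.orderOf_coe]
      refine Nat.dvd_antisymm (orderOf_dvd_of_pow_eq_one ?_) (orderOf_map_dvd _ _)
      refine hinj y hy hay _ 1 (by rw [Subgroup.coe_pow]; exact Subgroup.pow_mem _ hn _) (one_mem _) ?_
      rw [map_pow, pow_orderOf_eq_one, map_one]
    have hin : ∀ x ∈ D, ¬ q ∣ orderOf x → x ∈ K := fun x hx hq => by
      refine ⟨⟨x, hx.1⟩, ⟨hx, ?_⟩, rfl⟩
      show π ⟨x, hx.1⟩ ∈ F
      haveI := hFn
      refine (QuotientGroup.eq_one_iff _).1 (orderOf_eq_one_iff.1 ?_)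
      have h1 : orderOf (QuotientGroup.mk' F (π ⟨x, hx.1⟩)) ∣ q := by
        refine (orderOf_dvd_natCard _).trans (dvd_of_eq ?_)
        have h3 := F.card_mul_index
        rw [hHc, Subgroup.index_eq_card] at h3
        exact Nat.eq_of_mul_eq_mul_left Nat.card_pos h3
      refine ((Nat.dvd_prime h.prime).1 h1).resolve_right fun e => hq ?_
      rw [show x = ((⟨x, hx.1⟩ : N) : G) from rfl, horder _ hx, ← e]
      exact orderOf_map_dvd _ _
    have hout : ∀ x ∈ K, ¬ q ∣ orderOf x := by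
      rintro _ ⟨n, ⟨hnD, hnF⟩, rfl⟩ hq
      refine hFq (hq.trans ?_)
      show orderOf (n : G) ∣ _
      rw [horder n hnD]
      exact Subgroup.orderOf_dvd_natCard F hnF
    have hKD : K ≤ D := by
      rintro _ ⟨n, hn, rfl⟩
      exact hn.1
    refine ⟨K, hKD, hin, hout, fun hd => ?_, fun f hf => ?_, fun g hg => mem_normalizer_of_forall fun x hx => ?_⟩
    · obtain ⟨x, hx⟩ := exists_prime_orderOf_dvd_card' q hd
      exact hout x x.2 (by rw [Subgroup.orderOf_coe, hx])
    · obtain ⟨n, hn, e⟩ := (hpair y hy hay).2 f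
      exact ⟨n, ⟨n, ⟨hn, show π n ∈ F from e.symm ▸ hf⟩, rfl⟩, e⟩
    · refine hin _ ((Subgroup.mem_normalizer_iff.1 hg x).1 (hKD hx)) ?_
      rw [show orderOf (g * x * g⁻¹) = orderOf x from orderOf_injective (MulAut.conj g).toMonoidHom (MulAut.conj g).injective x]
      exact hout x hx
  have hF1 : F ≠ ⊥ := fun e => by rw [e, Subgroup.card_bot] at hFc; omega
  have hnoq : ∀ x : G, x ≠ 1 → ¬ q ∣ orderOf x → Odd (orderOf x) → ∀ e : G, (orderOf e = 2 ∨ orderOf e = q) →
      Commute e x → False := fun x hx1 hxq hxo e he hc => by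
    obtain ⟨r, i, hr, hrd, hi⟩ := exists_prime_pow_power hx1
    exact h.no_commute he hr (fun e' => Nat.not_even_iff_odd.2 hxo (even_iff_two_dvd.2 (e' ▸ hrd)))
      (fun e' => hxq (e' ▸ hrd)) hi (hc.pow_right i)
  have hDodd : ∀ y : G ⧸ N, y ≠ x₀ → a • y = y → ∀ x ∈ N ⊓ MulAction.stabilizer G y, Odd (orderOf x) := by
    intro y hy hay x hx
    obtain ⟨g, rfl⟩ := QuotientGroup.mk_surjective y
    have hgN : g ∉ N := fun e => hy (QuotientGroup.eq.2 (by rw [mul_one]; exact inv_mem e))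
    exact (hs.se.2.2 g hgN).of_dvd_nat (Subgroup.orderOf_dvd_natCard _ (Subgroup.mem_inf.2 ⟨hx.1,
      g⁻¹ * x * g, smul_mk_eq_iff.1 hx.2, show g * (g⁻¹ * x * g) * g⁻¹ = x by group⟩))
  -- a point fixed by the whole stabiliser
  have htwo : ∀ y z : G ⧸ N, y ≠ x₀ → a • y = y → z ≠ x₀ → a • z = z →
      N ⊓ MulAction.stabilizer G y ≤ MulAction.stabilizer G z → z = y := by
    intro y z hy hay hz haz hle
    by_contra hzy
    set D := N ⊓ MulAction.stabilizer G y with hD
    have haD : a ∈ D := ⟨haN, hay⟩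
    obtain ⟨K, hKD, hKin, hKout, hKq, hKF, hKn⟩ := hFD y hy hay
    have hK1 : K ≠ ⊥ := fun e => by
      obtain ⟨⟨f, hf⟩, hf1⟩ := Subgroup.ne_bot_iff_exists_ne_one.1 hF1
      obtain ⟨n, hn, en⟩ := hKF f hf
      rw [e, Subgroup.mem_bot] at hn
      exact hf1 (Subtype.ext (show f = 1 from en.symm.trans (by rw [show n = 1 from Subtype.ext hn, map_one])))
    set X := Subgroup.normalizer (D : Set G) ⊓ C with hX
    have haX : a ∈ X := ⟨Subgroup.le_normalizer haD, memC (Commute.refl a)⟩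
    have hXodd : ∀ v ∈ X, orderOf v = q → v ∈ Subgroup.zpowers a := by
      intro v hv hvo
      by_contra hva
      set E := Subgroup.closure ({a, v} : Set G) with hE
      have hav : Commute a v := (commute_of_memC hv.2).symm
      haveI : IsMulCommutative E := Subgroup.isMulCommutative_closure (by
        intro x hx y' hy'
        rcases hx with rfl | hx <;> rcases hy' with rfl | hy'
        · rfl
        · rw [Set.mem_singleton_iff.1 hy']; exact hav.eq
        · rw [Set.mem_singleton_iff.1 hx]; exact hav.eq.symm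
        · rw [Set.mem_singleton_iff.1 hx, Set.mem_singleton_iff.1 hy'])
      have hEexp : ∀ e ∈ E, e ^ q = 1 := by
        intro e he
        refine Subgroup.closure_induction (p := fun e _ => e ^ q = 1) ?_ (one_pow q) ?_ ?_ he
        · rintro x (rfl | hx)
          · rw [← hao, pow_orderOf_eq_one]
          · rw [Set.mem_singleton_iff.1 hx, ← hvo, pow_orderOf_eq_one]
        · intro x y' hx hy' ex ey
          rw [(show Commute x y' from congrArg Subtype.val
            (mul_comm' (⟨x, hx⟩ : E) ⟨y', hy'⟩)).mul_pow, ex, ey, one_mul]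
        · intro x _ ex
          rw [inv_pow, ex, inv_one]
      have hEq : IsPGroup q E := fun e => ⟨1, Subtype.ext (by rw [pow_one, Subgroup.coe_pow]; exact hEexp e e.2)⟩
      have hEc : ¬ IsCyclic E := fun hcy => by
        obtain ⟨g, hg⟩ := hcy.exists_generator
        have hle' : Nat.card E ≤ q := by
          rw [← orderOf_eq_card_of_forall_mem_zpowers hg]
          exact Nat.le_of_dvd h.prime.pos (orderOf_dvd_of_pow_eq_one (Subtype.ext (hEexp g g.2)))
        exact hva ((Subgroup.eq_of_le_of_card_ge (Subgroup.zpowers_le.2 (Subgroup.subset_closure (Set.mem_insert _ _)))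
          (by rw [Nat.card_zpowers, hao]; exact hle')).ge (Subgroup.subset_closure (Set.mem_insert_of_mem _ (Set.mem_singleton _))))
      have hEK : E ≤ Subgroup.normalizer (K : Set G) := (Subgroup.closure_le _).2 (by
        rintro x (rfl | hx)
        · exact hKn (Subgroup.le_normalizer haD)
        · rw [Set.mem_singleton_iff.1 hx]; exact hKn hv.1)
      obtain ⟨k, hk⟩ := IsPGroup.iff_card.1 hEq
      have hgen := S0058.result E K hEc hEK (hk ▸ (h.prime.coprime_iff_not_dvd.2 hKq).pow_left k)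
      refine hK1 (hgen ▸ ?_)
      simp only [iSup_eq_bot]
      intro e he
      refine (Subgroup.eq_bot_iff_forall _).2 fun x hx => ?_
      by_contra hx1
      exact hnoq x hx1 (hKout x hx.1) (hDodd y hy hay x (hKD hx.1)) e
        (Or.inr (h.orderOf_of_mem hEq he.1 he.2)) (commute_of_memC hx.2).symm
    have hXprime : ∀ r : ℕ, r.Prime → r ∣ Nat.card X → r = 2 ∨ r = q := fun r hr hd =>
      hprC r hr (hd.trans (Subgroup.card_dvd_of_le inf_le_right))
    have hXcard : Nat.card X ∣ 2 * q := by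
      rw [Nat.dvd_iff_prime_pow_dvd_dvd]
      intro p k hp hpk
      rcases k with _ | k
      · exact one_dvd _
      haveI := Fact.mk hp
      obtain ⟨T, hT⟩ := Sylow.exists_subgroup_card_pow_prime p hpk
      have hTc : Nat.card (T.map X.subtype) = p ^ (k + 1) := by
        rw [Subgroup.card_map_of_injective X.subtype_injective, hT]
      have hTp : IsPGroup p (T.map X.subtype) := IsPGroup.of_card hTc
      rcases hXprime p hp ((dvd_pow_self p k.succ_ne_zero).trans hpk) with rfl | e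
      · have h1 := hTwo' _ hTp ((Subgroup.map_subtype_le _).trans inf_le_right)
        rw [hTc] at h1
        have : k = 0 := by
          by_contra hk0
          have := Nat.pow_le_pow_right (n := 2) two_pos (show 2 ≤ k + 1 by omega)
          omega
        rw [this]
        exact dvd_mul_right _ _
      · have hTa : T.map X.subtype ≤ Subgroup.zpowers a := fun v hv => by
          by_cases hv1 : v = 1
          · exact hv1 ▸ one_mem _
          exact hXodd v (Subgroup.map_subtype_le _ hv) (h.orderOf_of_mem (e ▸ hTp) hv hv1)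
        have h1 := Subgroup.card_dvd_of_le hTa
        rw [hTc, Nat.card_zpowers, hao] at h1
        exact h1.trans (dvd_mul_left _ _)
    have hfixX : ∀ v ∈ Subgroup.zpowers a, v • x₀ = x₀ := fun v hv =>
      Solv.CITGroups.fix_iff.2 (Subgroup.zpowers_le.2 haN hv)
    -- the orbit of the base point
    have hmove : ∀ z' : G ⧸ N, z' ≠ x₀ → a • z' = z' → D ≤ MulAction.stabilizer G z' → z' ∈ MulAction.orbit X x₀ := by
      intro z' hz' haz' hle'
      obtain ⟨w, hw, hwz, hwn⟩ := hswap y z' hy hay hz' haz' hle'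
      -- correct the swapper inside the stabiliser
      have haDq : IsPGroup q ((Subgroup.zpowers a).subgroupOf D) :=
        (IsPGroup.of_card (n := 1) (by rw [Nat.card_zpowers, hao, pow_one]) : IsPGroup q (Subgroup.zpowers a)).comap_subtype
      have hwa : w * a * w⁻¹ ∈ D := (Subgroup.mem_normalizer_iff.1 hwn a).1 haD
      have hwaq : IsPGroup q ((Subgroup.zpowers (w * a * w⁻¹)).subgroupOf D) :=
        (IsPGroup.of_card (n := 1) (by rw [Nat.card_zpowers, pow_one, show orderOf (w * a * w⁻¹) = orderOf a from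
          orderOf_injective (MulAut.conj w).toMonoidHom (MulAut.conj w).injective a, hao]) :
          IsPGroup q (Subgroup.zpowers (w * a * w⁻¹))).comap_subtype
      obtain ⟨Q, hQ⟩ := haDq.exists_le_sylow
      obtain ⟨Q', hQ'⟩ := hwaq.exists_le_sylow
      obtain ⟨c, hc⟩ := MulAction.exists_smul_eq D Q' Q
      have hQa : (Q : Subgroup D).map D.subtype ≤ Subgroup.zpowers a := by
        have h1 : Nat.card ((Q : Subgroup D).map D.subtype) ≤ Nat.card (Subgroup.zpowers a) := by
          rw [Nat.card_zpowers, hao, Subgroup.card_map_of_injective D.subtype_injective]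
          obtain ⟨l, hl⟩ := IsPGroup.iff_card.1 Q.isPGroup'
          have hdvd : Nat.card (Q : Subgroup D) ∣ Nat.card (aut S) := by
            refine (Subgroup.card_subgroup_dvd_card _).trans ?_
            let f : D →* aut S := π.comp (Subgroup.inclusion (inf_le_left : D ≤ N))
            refine Subgroup.card_dvd_of_injective f fun d d' e => ?_
            exact Subtype.ext (congrArg (fun n : N => (n : G)) (hinj y hy hay ⟨d, d.2.1⟩ ⟨d', d'.2.1⟩ d.2 d'.2 e))
          rw [hl, hHc] at hdvd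
          have h2 : q ^ l ∣ q := ((h.prime.coprime_iff_not_dvd.2 hFq).pow_left l).dvd_of_dvd_mul_left hdvd
          rw [hl]
          exact Nat.le_of_dvd h.prime.pos h2
        have h2 : Subgroup.zpowers a ≤ (Q : Subgroup D).map D.subtype :=
          Subgroup.zpowers_le.2 ⟨⟨a, haD⟩, hQ (Subgroup.mem_zpowers a), rfl⟩
        exact (Subgroup.eq_of_le_of_card_ge h2 h1).ge
      have hcwa : (c : G) * w * a * ((c : G) * w)⁻¹ ∈ Subgroup.zpowers a := by
        rw [show (c : G) * w * a * ((c : G) * w)⁻¹ = (c : G) * (w * a * w⁻¹) * (c : G)⁻¹ by group]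
        refine hQa ⟨c * ⟨_, hwa⟩ * c⁻¹, ?_, rfl⟩
        rw [← hc]
        exact ⟨⟨_, hwa⟩, hQ' (Subgroup.mem_zpowers _), rfl⟩
      refine ⟨⟨(c : G) * w, mul_mem (Subgroup.le_normalizer c.2) hwn, memC (hNa _ hcwa)⟩, ?_⟩
      show ((c : G) * w) • x₀ = z'
      rw [mul_smul, hwz]
      exact hle' c.2
    have horb : Nat.card (MulAction.orbit X x₀) ≤ 2 := by
      have h1 := Nat.card_congr (MulAction.orbitProdStabilizerEquivGroup X x₀)
      rw [Nat.card_prod] at h1
      have h2 : q ≤ Nat.card (MulAction.stabilizer X x₀) := by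
        refine Nat.le_of_dvd Nat.card_pos (hao ▸ ?_)
        have h3 := Subgroup.orderOf_dvd_natCard (MulAction.stabilizer X x₀) (x := (⟨a, haX⟩ : X))
          (hfixX a (Subgroup.mem_zpowers a))
        rwa [Subgroup.orderOf_mk] at h3
      have h3 := Nat.le_of_dvd (Nat.mul_pos two_pos h.prime.pos) hXcard
      by_contra hlt
      have : 3 * q ≤ Nat.card (MulAction.orbit X x₀) * Nat.card (MulAction.stabilizer X x₀) :=
        Nat.mul_le_mul (by omega) h2
      have := h.prime.pos
      omega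
    let f : Fin 3 → MulAction.orbit X x₀ := ![⟨x₀, MulAction.mem_orbit_self _⟩,
      ⟨y, hmove y hy hay inf_le_right⟩, ⟨z, hmove z hz haz hle⟩]
    have hf : Function.Injective f := by
      intro i j e
      have e' := congrArg Subtype.val e
      fin_cases i <;> fin_cases j <;>
        first | rfl | (exfalso; simp [f, hy, hz, hzy, hy.symm, hz.symm, Ne.symm hzy] at e')
    have := Nat.card_le_card_of_injective f hf
    rw [Nat.card_fin] at this
    omega
  -- an orbit with at least `q` points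
  obtain ⟨w₀, hw₀C, hw₀N⟩ := SetLike.not_le_iff_exists.1 hnotle
  have haz : ∀ c ∈ C, a • (c • x₀) = c • x₀ := fun c hc => by
    rw [smul_smul, (commute_of_memC hc).eq.symm, mul_smul, hax₀]
  set y := w₀ • x₀ with hydef
  have hy : y ≠ x₀ := fun e => hw₀N (Solv.CITGroups.fix_iff.1 e)
  have hay : a • y = y := haz w₀ hw₀C
  set D := N ⊓ MulAction.stabilizer G y with hD
  have hmem3 : ∀ z : G ⧸ N, z ≠ x₀ → a • z = z → z = y ∨ z = t • y := by
    intro z hz haz'
    haveI : ((S : Subgroup G).subgroupOf N).Normal := Subgroup.normal_in_normalizer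
    have hSc : Nat.card ((S : Subgroup G).subgroupOf N) = Nat.card (S : Subgroup G) :=
      Nat.card_congr (Subgroup.subgroupOfEquivOfLe Subgroup.le_normalizer).toEquiv
    have hsol : Group.IsSolvable ((S : Subgroup G).subgroupOf N) :=
      Group.isSolvable_of_comm fun u v => Subtype.ext (Subtype.ext (h.two_comm S.isPGroup' u.2 v.2))
    have hcop : (Nat.card ((S : Subgroup G).subgroupOf N)).Coprime ((S : Subgroup G).subgroupOf N).index := by
      obtain ⟨l, hl⟩ := IsPGroup.iff_card.1 S.isPGroup'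
      rw [hSc, hl]
      refine (Nat.prime_two.coprime_iff_not_dvd.2 fun hd => S.not_dvd_index (hd.trans ?_)).pow_left l
      exact Dvd.intro _ (Subgroup.relIndex_mul_index (Subgroup.le_normalizer : (S : Subgroup G) ≤ N))
    have hcompl : ∀ z' : G ⧸ N, z' ≠ x₀ → a • z' = z' →
        Subgroup.IsComplement' ((S : Subgroup G).subgroupOf N) ((N ⊓ MulAction.stabilizer G z').subgroupOf N) := by
      intro z' hz' haz''
      refine Subgroup.isComplement'_of_disjoint_and_mul_eq_univ ?_ (Set.eq_univ_of_forall fun g => ?_)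
      · rw [disjoint_iff, eq_bot_iff]
        rintro u ⟨huS, huD⟩
        exact Subtype.ext ((hpair z' hz' haz'').1 _ huD huS)
      · obtain ⟨n, hn, e⟩ := (hpair z' hz' haz'').2 (π g)
        exact ⟨g * n⁻¹, hπS (g * n⁻¹) (by rw [map_mul, map_inv, e, mul_inv_cancel]), n, hn, inv_mul_cancel_right g n⟩
    obtain ⟨g, hg⟩ := S0001.result _ hcop (Or.inl hsol) _ _ (hcompl y hy hay) (hcompl z hz haz')
    obtain ⟨n, hn, e⟩ := (hpair y hy hay).2 (π g)
    set s : N := g * n⁻¹ with hs'
    have hsS : (s : G) ∈ (S : Subgroup G) := hπS _ (by rw [hs', map_mul, map_inv, e, mul_inv_cancel])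
    have hsD : ∀ d ∈ D, (s : G) * d * (s : G)⁻¹ ∈ N ⊓ MulAction.stabilizer G z := by
      intro d hd
      have hd' : (n : G)⁻¹ * d * n ∈ D := Subgroup.mul_mem _ (Subgroup.mul_mem _ (Subgroup.inv_mem _ hn) hd) hn
      obtain ⟨u, hu⟩ : ∃ u : N, u = n⁻¹ * ⟨d, hd.1⟩ * n := ⟨_, rfl⟩
      have h1 : (MulAut.conj g) u ∈ MulAut.conj g • (D.subgroupOf N) := ⟨u, by rw [hu]; exact hd', rfl⟩
      rw [hg] at h1
      have h2 : ((MulAut.conj g) u : N).1 = (s : G) * d * (s : G)⁻¹ := by
        rw [hu, hs']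
        show (g : G) * ((n : G)⁻¹ * d * n) * (g : G)⁻¹ = (g : G) * (n : G)⁻¹ * d * ((g : G) * (n : G)⁻¹)⁻¹
        group
      rw [← h2]
      exact h1
    have hsa : Commute a (s : G) := by
      have h1 := hsD a ⟨haN, hay⟩
      have h2 := hinj z hz haz' (s * aN * s⁻¹) aN h1 ⟨haN, haz'⟩
        (by rw [map_mul, map_mul, map_inv, hπS' s hsS, one_mul, inv_one, mul_one])
      exact (mul_inv_eq_iff_eq_mul.1 (congrArg Subtype.val h2)).symm
    rcases hCS _ hsS hsa with e' | e'
    · left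
      refine htwo y z hy hay hz haz' fun d hd => ?_
      have := hsD d hd
      rw [e'] at this
      simpa using this.2
    · right
      have h1 : t • z = y := by
        refine htwo y (t • z) hy hay (fun e2 => hz ?_) ?_ fun d hd => ?_
        · exact smul_left_cancel t (e2.trans (Solv.CITGroups.fix_iff.2 htN).symm)
        · rw [smul_smul, hat.eq, mul_smul, haz']
        · have := (hsD d hd).2
          rw [e'] at this
          show d • (t • z) = t • z
          have h3 : (t * d * t⁻¹) • z = z := this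
          rw [inv_self ht2, mul_smul, mul_smul] at h3
          exact smul_left_cancel t (h3.trans (by rw [smul_smul, sq_one ht2, one_smul]))
      rw [← h1, smul_smul, sq_one ht2, one_smul]
  have hCorb : q ≤ 3 := by
    have h1 := Nat.card_congr (MulAction.orbitProdStabilizerEquivGroup C x₀)
    rw [Nat.card_prod] at h1
    have hle : Nat.card (MulAction.orbit C x₀) ≤ 3 := by
      let f : Fin 3 → G ⧸ N := ![x₀, y, t • y]
      have hs3 : MulAction.orbit C x₀ ⊆ Set.range f := by
        rintro _ ⟨c, rfl⟩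
        by_cases hc : (c : G) • x₀ = x₀
        · exact ⟨0, hc.symm⟩
        rcases hmem3 _ hc (haz c c.2) with e | e
        · exact ⟨1, e.symm⟩
        · exact ⟨2, e.symm⟩
      refine (Nat.card_mono (Set.finite_range f) hs3).trans ((Finite.card_range_le f).trans ?_)
      rw [Nat.card_fin]
    set o := Nat.card (MulAction.orbit C x₀)
    have ho1 : o ≠ 1 := fun e => by
      have hsub : Subsingleton (MulAction.orbit C x₀) := (Nat.card_eq_one_iff_unique.1 e).1
      exact hy (congrArg Subtype.val (@Subsingleton.elim _ hsub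
        ⟨y, ⟨w₀, hw₀C⟩, rfl⟩ ⟨x₀, MulAction.mem_orbit_self _⟩))
    obtain ⟨r, hr, hrd⟩ := Nat.exists_prime_and_dvd ho1
    rcases hprC r hr (hrd.trans ⟨_, h1.symm⟩) with e | e
    · exfalso
      subst e
      have h2 : 2 ∣ Nat.card (MulAction.stabilizer C x₀) := by
        have h3 := Subgroup.orderOf_dvd_natCard (MulAction.stabilizer C x₀) (x := (⟨t, htC⟩ : C))
          (Solv.CITGroups.fix_iff.2 htN)
        rwa [Subgroup.orderOf_mk, ht2] at h3
      have h4 : 2 ^ 2 ∣ Nat.card C := by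
        rw [← h1, pow_two]
        exact Nat.mul_dvd_mul hrd h2
      obtain ⟨T, hT⟩ := Sylow.exists_subgroup_card_pow_prime 2 h4
      have h5 := hTwo' (T.map C.subtype) (IsPGroup.of_card (n := 2)
        (by rw [Subgroup.card_map_of_injective C.subtype_injective, hT])) (Subgroup.map_subtype_le _)
      rw [Subgroup.card_map_of_injective C.subtype_injective, hT] at h5
      omega
    · subst e
      haveI : Nonempty (MulAction.orbit C x₀) := ⟨⟨x₀, MulAction.mem_orbit_self _⟩⟩
      exact (Nat.le_of_dvd Nat.card_pos hrd).trans hle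
  have hq3 : q = 3 := by have := h.prime.two_le; have := h.ne_two; omega
  -- the complement is commutative
  obtain ⟨w, hw, hwy, hwn⟩ := hswap y y hy hay hy hay inf_le_right
  obtain ⟨K, hKD, hKin, hKout, hKq, hKF, hKn⟩ := hFD y hy hay
  have hinv : ∀ x ∈ K, w * x * w⁻¹ = x⁻¹ := inverts_of_fpf (sq_one hw) (hKn hwn) fun x hx hc => by
    by_contra hx1
    exact hnoq x hx1 (hKout x hx) (hDodd y hy hay x (hKD hx)) w (Or.inl hw) hc
  have hFcomm : ∀ f ∈ F, ∀ g ∈ F, f * g = g * f := by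
    intro f hf g hg
    obtain ⟨n, hn, rfl⟩ := hKF f hf
    obtain ⟨m, hm, rfl⟩ := hKF g hg
    rw [← map_mul, ← map_mul]
    refine congrArg π (Subtype.ext ?_)
    have h1 := hinv _ (mul_mem hn hm)
    rw [show w * ((n : G) * m) * w⁻¹ = w * n * w⁻¹ * (w * m * w⁻¹) by group, hinv _ hn, hinv _ hm,
      ← mul_inv_rev, inv_inj] at h1
    exact h1.symm
  -- so there are at most eight elements
  have hS8 : Nat.card (S : Subgroup G) = 8 := by
    refine le_antisymm ?_ h8
    letI : CommGroup (S : Subgroup G) :=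
      { (inferInstance : Group (S : Subgroup G)) with
        mul_comm := fun u v => Subtype.ext (h.two_comm S.isPGroup' u.2 v.2) }
    obtain ⟨⟨b, hb⟩, hb1⟩ := Subgroup.ne_bot_iff_exists_ne_one.1 hF1
    set b₁ := ā * b * ā⁻¹ with hb₁
    set b₂ := ā * b₁ * ā⁻¹ with hb₂
    have hb₁F : b₁ ∈ F := hFn.conj_mem b hb ā
    have hb₂F : b₂ ∈ F := hFn.conj_mem b₁ hb₁F ā
    have hfpf : ∀ g ∈ F, ∀ v : (S : Subgroup G), (g : MulAut (S : Subgroup G)) v = v → g = 1 ∨ v = 1 := by
      intro g hg v hv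
      by_contra hc
      push Not at hc
      exact hFq ((hs.aut_fixed hc.1 hc.2 hv) ▸ Subgroup.orderOf_dvd_natCard F hg)
    have hnc : ∀ g ∈ F, g ≠ 1 → ¬ Commute ā g := fun g hg hg1 hc => by
      obtain ⟨r, hr, hd⟩ := Nat.exists_prime_and_dvd (fun e => hg1 (orderOf_eq_one_iff.1 e))
      exact hs.aut_no_commute hāo hr (fun e => hFq (e ▸ hd.trans (Subgroup.orderOf_dvd_natCard _ hg)))
        (orderOf_pow_orderOf_div (orderOf_pos g).ne' hd) (hc.pow_right _)
    have hb1' : b ≠ 1 := fun e => hb1 (Subtype.ext e)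
    have hne01 : b ≠ b₁ := fun e => hnc b hb hb1' (mul_inv_eq_iff_eq_mul.1 (hb₁ ▸ e.symm))
    have hne02 : b ≠ b₂ := fun e => by
      refine hnc b hb hb1' ?_
      have h2 : Commute (ā ^ 2) b := mul_inv_eq_iff_eq_mul.1 (by
        rw [show ā ^ 2 * b * (ā ^ 2)⁻¹ = ā * (ā * b * ā⁻¹) * ā⁻¹ by simp [pow_two, mul_assoc, mul_inv_rev], ← hb₁, ← hb₂, ← e])
      obtain ⟨j, hj⟩ := exists_pow_eq_self_of_coprime (x := ā) (n := 2) (by rw [hāo, hq3]; norm_num)
      exact hj ▸ h2.pow_left j
    have hsep : ∀ c ∈ F, c ≠ b → ∀ v : (S : Subgroup G),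
        (b : MulAut (S : Subgroup G)) v = (c : MulAut (S : Subgroup G)) v → v = 1 := by
      intro c hc hne v e
      refine (hfpf (c⁻¹ * b) (F.mul_mem (F.inv_mem hc) hb) v ?_).resolve_left fun e1 => hne (inv_mul_eq_one.1 e1)
      show ((c : MulAut (S : Subgroup G))⁻¹ * (b : MulAut (S : Subgroup G))) v = v
      rw [MulAut.mul_apply, e]
      exact (c : MulAut (S : Subgroup G)).symm_apply_apply v
    refine card_le_eight (ā : MulAut (S : Subgroup G)) ?_ ?_ (b : MulAut (S : Subgroup G)) (b₁ : MulAut (S : Subgroup G))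
      (b₂ : MulAut (S : Subgroup G)) ?_ ?_ (congrArg Subtype.val (hFcomm b hb b₁ hb₁F))
      (congrArg Subtype.val (hFcomm b hb b₂ hb₂F)) (congrArg Subtype.val (hFcomm b₁ hb₁F b₂ hb₂F))
      (hsep b₁ hb₁F hne01.symm) (hsep b₂ hb₂F hne02.symm)
    · rw [← Subgroup.coe_pow, ← hq3, ← hāo, pow_orderOf_eq_one]
      rfl
    · let f : {v : (S : Subgroup G) // (ā : MulAut (S : Subgroup G)) v = v} → Bool := fun v => decide (v.1 = 1)
      have hf : Function.Injective f := by
        intro u v e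
        have hcase : ∀ u : {v : (S : Subgroup G) // (ā : MulAut (S : Subgroup G)) v = v}, u.1 = 1 ∨ u.1 = τ :=
          fun u => (hCS _ u.1.2 (mul_inv_eq_iff_eq_mul.1 (congrArg Subtype.val u.2))).imp Subtype.ext Subtype.ext
        refine Subtype.ext ?_
        rcases hcase u with e1 | e1 <;> rcases hcase v with e2 | e2 <;> simp [f, e1, e2, hτ] at e ⊢
      exact (Nat.card_le_card_of_injective f hf).trans (by simp)
    · exact congrArg Subtype.val (show ā * b = b₁ * ā by rw [hb₁, inv_mul_cancel_right])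
    · exact congrArg Subtype.val (show ā * b₁ = b₂ * ā by rw [hb₂, inv_mul_cancel_right])
  have h7 : Nat.card (aut S) = 7 := by
    have hk : (conjHom S).ker =
        (Subgroup.centralizer ((S : Subgroup G) : Set G)).subgroupOf N := Subgroup.ext fun n => conjHom_eq_one
    have h1 := S3189.result (fun hc => by
        obtain ⟨u, v, huv⟩ := hna
        exact huv (hc.is_comm.comm u v)) S
      ⟨⟨⟨fun u v => Subtype.ext (h.two_comm S.isPGroup' u.2 v.2)⟩⟩, fun u hu => by rw [pow_two]; exact h.two_sq S.isPGroup' hu⟩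
      hS8 fun u hu => h.cent_solvable (Or.inl hu)
    rw [Subgroup.relIndex, ← hk, Subgroup.index_ker] at h1
    exact h1
  rw [hS8] at hFc
  rw [h7, hq3] at hHc
  omega

omit hs in
theorem Hyp.false_of_eight [IsSimpleGroup G] (h : Hyp G q) (hna : ∃ a b : G, a * b ≠ b * a) (S : Sylow 2 G)
    (h8 : 8 ≤ Nat.card (S : Subgroup G)) : False := by
  obtain ⟨W, hs⟩ := h.setup hna S h8
  exact hs.false_of_W_bot hna h8 (hs.W_eq_bot hna h8)

end Cfsg.Agent.Lie.TwoQ
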