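import Cfsg.Agent.Lib.Lie.TwoQ.LargeAut
import Cfsg.Agent.Lib.Solv.CIT.Frame
import Cfsg.Agent.Lib.Solv.CIT.Four
import Cfsg.Agent.S0346

/-!
# The largest invariant `q`-subgroup is trivial
-/

set_option autoImplicit false
set_option linter.unusedSectionVars false
set_option linter.style.haveILetI false

namespace Cfsg.Agent.Lie.TwoQ

open Cfsg
open Cfsg.Agent.Fusion.SEPairs
open Cfsg.Agent.Solv.CITGroups (Frame)

universe u

variable {G : Type u} [Group G] [Finite G] {q : ℕ} {S : Sylow 2 G} {W : Subgroup G}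
variable (hs : Setup q S W)
include hs

theorem Setup.odd_mem {x : G} (hx : x ∈ Subgroup.centralizer ((S : Subgroup G) : Set G)) (ho : Odd (orderOf x)) :
    x ∈ W := by
  obtain ⟨w, hw, v, hv, rfl⟩ := hs.split x hx
  refine mem_of_sq_mem ho ?_
  rw [pow_two, show w * v * (w * v) = w * (v * w) * v by group,
    ← (Subgroup.mem_centralizer_iff.1 (hs.centr hv) w hw), show w * (w * v) * v = w * w * (v * v) by group,
    hs.hyp.two_sq S.isPGroup' hv, mul_one]
  exact mul_mem hw hw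

theorem Setup.W_le : W ≤ Subgroup.centralizer ((S : Subgroup G) : Set G) := fun _ hx =>
  Subgroup.mem_centralizer_iff.2 fun _ hv => (Subgroup.mem_centralizer_iff.1 (hs.centr hv) _ hx).symm

theorem Setup.mem_sylow_of_two {x : G} (hx : x ∈ Subgroup.normalizer ((S : Subgroup G) : Set G))
    (ho : orderOf x = 2) : x ∈ (S : Subgroup G) :=
  mem_sylow_of_normalizer S hx (k := 1) (ho.trans (pow_one 2).symm)

/-- An element `d` of order `q` of the normaliser which is inverted by an involution outside it centralises nothing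
of `W`. -/
theorem Setup.no_inverted (hreg : ∀ n : Subgroup.normalizer ((S : Subgroup G) : Set G), ∀ t ∈ (S : Subgroup G),
      t ≠ 1 → Commute (n : G) t → (n : G) ∈ Subgroup.centralizer ((S : Subgroup G) : Set G))
    {u d z : G} (hu : orderOf u = 2) (huN : u ∉ Subgroup.normalizer ((S : Subgroup G) : Set G))
    (hd : orderOf d = q) (hdu : u * d * u⁻¹ = d⁻¹) (hz : z ∈ W) (hz1 : z ≠ 1) (hzd : Commute z d) : False := by
  classical
  haveI : Fact (Nat.Prime 2) := ⟨Nat.prime_two⟩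
  haveI := Fact.mk hs.hyp.prime
  set N := Subgroup.normalizer ((S : Subgroup G) : Set G) with hN
  have hd1 : d ≠ 1 := fun e => by rw [e, orderOf_one] at hd; exact hs.hyp.prime.one_lt.ne hd
  have hqodd : Odd q := hs.hyp.prime.odd_of_ne_two hs.hyp.ne_two
  have hconjo : ∀ g x : G, orderOf (g⁻¹ * x * g) = orderOf x := fun g x => by
    have h1 := orderOf_injective (MulAut.conj g⁻¹).toMonoidHom (MulAut.conj g⁻¹).injective x
    simpa [MulAut.conj_apply] using h1
  have hd2 : ∀ g : G, g⁻¹ * d * g ≠ 1 := fun g e => by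
    rw [← hconjo g d, e, orderOf_one] at hd; exact hs.hyp.prime.one_lt.ne hd
  have hsq : ∀ g : G, (g⁻¹ * d * g) * (g⁻¹ * d * g) = 1 → False := fun g e => by
    have h1 : orderOf (g⁻¹ * d * g) ∣ 2 := orderOf_dvd_of_pow_eq_one (by rw [pow_two]; exact e)
    rw [hconjo, hd] at h1
    exact hs.hyp.ne_two ((Nat.prime_dvd_prime_iff_eq hs.hyp.prime Nat.prime_two).1 h1)
  -- moving an involution into the normaliser
  have hmove : ∀ s : G, orderOf s = 2 → ∃ g : G, g⁻¹ * s * g ∈ (S : Subgroup G) ∧ g⁻¹ * s * g ≠ 1 := by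
    intro s hso
    obtain ⟨x, hx⟩ := exists_fixed hs.se hso
    obtain ⟨g, rfl⟩ := QuotientGroup.mk_surjective x
    refine ⟨g, hs.mem_sylow_of_two (smul_mk_eq_iff.1 hx) (by rw [hconjo, hso]), fun e => ?_⟩
    rw [← hconjo g s, e, orderOf_one] at hso
    omega
  set C := Subgroup.centralizer (Subgroup.zpowers d : Set G) with hC
  have hmemC : ∀ x : G, Commute x d → x ∈ C := fun x hx => Subgroup.mem_centralizer_iff.2 fun y hy => by
    obtain ⟨j, rfl⟩ := Subgroup.mem_zpowers_iff.1 hy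
    exact (hx.zpow_right j).eq.symm
  have hCd : ∀ x ∈ C, Commute x d := fun x hx => (Subgroup.mem_centralizer_iff.1 hx d (Subgroup.mem_zpowers d)).symm
  have huZ : u ∈ Subgroup.normalizer (Subgroup.zpowers d : Set G) := mem_normalizer_of_forall fun y hy => by
    obtain ⟨j, rfl⟩ := Subgroup.mem_zpowers_iff.1 hy
    rw [← conj_zpow, hdu, inv_zpow]
    exact Subgroup.inv_mem _ (Subgroup.zpow_mem_zpowers d j)
  have huC : u ∈ Subgroup.normalizer (C : Set G) := normalizer_le_normalizer_centralizer huZ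
  by_cases hev : 2 ∣ Nat.card C
  · obtain ⟨⟨s, hsC⟩, hs2⟩ := exists_prime_orderOf_dvd_card' 2 hev
    rw [Subgroup.orderOf_mk] at hs2
    obtain ⟨g, hgS, hg1⟩ := hmove s hs2
    have hcd : Commute (g⁻¹ * d * g) (g⁻¹ * s * g) := by
      have := (hCd s hsC).symm.map (MulAut.conj g⁻¹)
      simpa [MulAut.conj_apply] using this
    have hdN : g⁻¹ * d * g ∈ N := hs.cent _ hgS hg1 (memC hcd)
    have hdW : g⁻¹ * d * g ∈ W := hs.odd_mem (hreg ⟨_, hdN⟩ _ hgS hg1 hcd) (by rw [hconjo, hd]; exact hqodd)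
    have huS : g⁻¹ * u * g ∈ (S : Subgroup G) := by
      refine hs.mem_sylow_of_two (hs.normW _ hdW (hd2 g) (mem_normalizer_of_forall fun y hy => ?_)) (by rw [hconjo, hu])
      obtain ⟨j, rfl⟩ := Subgroup.mem_zpowers_iff.1 hy
      rw [← conj_zpow, show g⁻¹ * u * g * (g⁻¹ * d * g) * (g⁻¹ * u * g)⁻¹ = g⁻¹ * (u * d * u⁻¹) * g by group, hdu,
        show g⁻¹ * d⁻¹ * g = (g⁻¹ * d * g)⁻¹ by group, inv_zpow]
      exact Subgroup.inv_mem _ (Subgroup.zpow_mem_zpowers _ j)
    refine hsq g ?_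
    have h1 : g⁻¹ * u * g * (g⁻¹ * d * g) * (g⁻¹ * u * g)⁻¹ = g⁻¹ * d * g := by
      rw [← Subgroup.mem_centralizer_iff.1 (hs.centr huS) _ hdW, mul_inv_cancel_right]
    rw [show g⁻¹ * u * g * (g⁻¹ * d * g) * (g⁻¹ * u * g)⁻¹ = g⁻¹ * (u * d * u⁻¹) * g by group, hdu] at h1
    calc g⁻¹ * d * g * (g⁻¹ * d * g) = g⁻¹ * d * g * (g⁻¹ * d⁻¹ * g) := by rw [h1]
      _ = 1 := by group
  · have hfpf : ∀ x ∈ C, Commute u x → x = 1 := by
      intro x hx hc
      by_contra hx1
      obtain ⟨g, hgS, hg1⟩ := hmove u hu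
      have hcx : Commute (g⁻¹ * x * g) (g⁻¹ * u * g) := by
        have := hc.symm.map (MulAut.conj g⁻¹)
        simpa [MulAut.conj_apply] using this
      have hxW : g⁻¹ * x * g ∈ W := by
        refine hs.odd_mem (hreg ⟨_, hs.cent _ hgS hg1 (memC hcx)⟩ _ hgS hg1 hcx) ?_
        rw [hconjo]
        exact (Nat.not_even_iff_odd.1 fun e => hev (even_iff_two_dvd.1 e)).of_dvd_nat (Subgroup.orderOf_dvd_natCard _ hx)
      have hdN : g⁻¹ * d * g ∈ N := by
        refine hs.centW _ hxW (fun e => ?_) (memC ?_)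
        · exact hx1 (orderOf_eq_one_iff.1 (by rw [← hconjo g x, e, orderOf_one]))
        · have := (hCd x hx).symm.map (MulAut.conj g⁻¹)
          simpa [MulAut.conj_apply] using this
      have h1 : g⁻¹ * u * g * (g⁻¹ * d * g) * (g⁻¹ * u * g)⁻¹ * (g⁻¹ * d * g)⁻¹ ∈ (S : Subgroup G) := by
        rw [show g⁻¹ * u * g * (g⁻¹ * d * g) * (g⁻¹ * u * g)⁻¹ * (g⁻¹ * d * g)⁻¹ =
          g⁻¹ * u * g * ((g⁻¹ * d * g) * (g⁻¹ * u * g)⁻¹ * (g⁻¹ * d * g)⁻¹) by group]
        exact mul_mem hgS ((Subgroup.mem_normalizer_iff.1 hdN _).1 (inv_mem hgS))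
      have h2 := hs.hyp.two_sq S.isPGroup' h1
      rw [show g⁻¹ * u * g * (g⁻¹ * d * g) * (g⁻¹ * u * g)⁻¹ * (g⁻¹ * d * g)⁻¹ =
          g⁻¹ * (u * d * u⁻¹) * d⁻¹ * g by group, hdu] at h2
      refine hsq g (orderOf_eq_one_iff.1 ?_)
      refine Nat.eq_one_of_dvd_coprimes (Nat.coprime_two_left.2 hqodd) ?_ (b := q) ?_
      · refine orderOf_dvd_of_pow_eq_one ?_
        calc (g⁻¹ * d * g * (g⁻¹ * d * g)) ^ 2 = (g⁻¹ * d⁻¹ * d⁻¹ * g * (g⁻¹ * d⁻¹ * d⁻¹ * g))⁻¹ := by
              simp [pow_two, mul_assoc]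
          _ = 1 := by rw [h2, inv_one]
      · refine orderOf_dvd_of_pow_eq_one ?_
        rw [(Commute.refl (g⁻¹ * d * g)).mul_pow, ← hd, ← hconjo g d, pow_orderOf_eq_one, mul_one]
    have hzi := inverts_of_fpf (Solv.CITGroups.orderOf_two_iff.1 hu).1 huC hfpf z (hmemC z hzd)
    refine huN (hs.normW z hz hz1 (mem_normalizer_of_forall fun y hy => ?_))
    obtain ⟨j, rfl⟩ := Subgroup.mem_zpowers_iff.1 hy
    rw [← conj_zpow, hzi, inv_zpow]
    exact Subgroup.inv_mem _ (Subgroup.zpow_mem_zpowers z j)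

/-- An automiser of `q`-power order acts semiregularly on the involutions. -/
theorem Setup.qgroup_free (h8 : 8 ≤ Nat.card (S : Subgroup G)) (hH : IsPGroup q (aut S)) :
    ∀ g : aut S, ∀ v : (S : Subgroup G), v ≠ 1 → (g : MulAut (S : Subgroup G)) v = v → g = 1 := by
  classical
  haveI : Fact (Nat.Prime 2) := ⟨Nat.prime_two⟩
  haveI := Fact.mk hs.hyp.prime
  haveI : Nontrivial (S : Subgroup G) := Finite.one_lt_card_iff_nontrivial.1 (by omega)
  obtain ⟨v₀, hv₀⟩ := exists_ne (1 : (S : Subgroup G))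
  haveI := Fintype.ofFinite (S : Subgroup G)
  -- the automiser has order `q`
  obtain ⟨k, hk⟩ := IsPGroup.iff_card.1 S.isPGroup'
  have hk3 : 3 ≤ k := by
    by_contra hlt
    have := Nat.pow_le_pow_right (n := 2) two_pos (show k ≤ 2 by omega)
    omega
  have horb : MulAction.orbit (aut S) v₀ = {v | v ≠ 1} := by
    refine Set.ext fun v => ⟨?_, fun hv => ?_⟩
    · rintro ⟨g, rfl⟩ e
      exact hv₀ ((g : MulAut (S : Subgroup G)).injective (e.trans (map_one _).symm))
    · obtain ⟨g, hg⟩ := hs.aut_trans hv₀ hv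
      exact ⟨g, hg⟩
  have hocard : Nat.card (MulAction.orbit (aut S) v₀) = 2 ^ k - 1 := by
    rw [horb, Nat.card_eq_fintype_card]
    rw [show Fintype.card {v : (S : Subgroup G) | v ≠ 1} = Fintype.card {v : (S : Subgroup G) // ¬ v = 1} from rfl,
      Fintype.card_subtype_compl, Fintype.card_subtype_eq, ← Nat.card_eq_fintype_card, hk]
  obtain ⟨j, hj⟩ := hH.exists_card_eq
  have hdvd : 2 ^ k - 1 ∣ q ^ j := by
    rw [← hocard, ← hj, Nat.card_congr (MulAction.orbitProdStabilizerEquivGroup (aut S) v₀).symm,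
      Nat.card_prod]
    exact dvd_mul_right _ _
  obtain ⟨i, -, hi⟩ := (Nat.dvd_prime_pow hs.hyp.prime).1 hdvd
  have h8' : 8 ≤ 2 ^ k := by rw [← hk]; exact h8
  have hi0 : 0 < i := Nat.pos_of_ne_zero fun e => by rw [e, pow_zero] at hi; omega
  have hqk : q + 1 = 2 ^ k := by
    rcases Solv.CITGroups.near_two_pow hs.hyp.prime hs.hyp.ne_two hi0 (k := k) (Or.inr (by omega)) with e | e
    · rw [e, pow_one] at hi; omega
    · exfalso
      have h10 : 2 ^ k = 10 := by omega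
      have h5 : 5 ∣ 2 ^ k := h10 ▸ by norm_num
      exact absurd ((Nat.prime_dvd_prime_iff_eq (by norm_num) Nat.prime_two).1
        ((show Nat.Prime 5 by norm_num).dvd_of_dvd_pow h5)) (by norm_num)
  intro g v hv hf
  by_contra hg
  have hgo := hs.aut_fixed hg hv hf
  obtain ⟨x, hx⟩ : ∃ x, (g : MulAut (S : Subgroup G)) x ≠ x := by
    by_contra hno
    push Not at hno
    exact hg (Subtype.ext (MulEquiv.ext hno))
  set σ : MulAut (S : Subgroup G) := ↑g
  have hσ : orderOf σ = q := by rw [← hgo, Subgroup.orderOf_coe]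
  have hxfix : ∀ i : ℕ, ¬ q ∣ i → (σ ^ i) x ≠ x := by
    intro i hi e
    obtain ⟨l, hl⟩ := exists_pow_eq_self_of_coprime (x := σ) (n := i)
      (hσ ▸ (hs.hyp.prime.coprime_iff_not_dvd.2 hi).symm)
    refine hx ?_
    have h1 : ∀ l : ℕ, ((σ ^ i) ^ l) x = x := by
      intro l
      induction l with
      | zero => simp
      | succ l ih => rw [pow_succ, MulAut.mul_apply, e, ih]
    have := h1 l
    rwa [hl] at this
  have hmovefix : ∀ y : (S : Subgroup G), σ y = y → ∀ i : ℕ, (σ ^ i) x ≠ y := by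
    intro y hy i e
    have h1 : ∀ l : ℕ, (σ ^ l) y = y := by
      intro l
      induction l with
      | zero => simp
      | succ l ih => rw [pow_succ, MulAut.mul_apply, hy, ih]
    refine hx ?_
    have hxy : x = y := (σ ^ i).injective (e.trans (h1 i).symm)
    rw [hxy]
    exact hy
  let f : Fin q ⊕ Fin 2 → (S : Subgroup G) := Sum.elim (fun i => (σ ^ (i : ℕ)) x) ![1, v]
  have hf' : Function.Injective f := by
    refine Function.Injective.sumElim (fun a b e => ?_) (fun a b e => ?_) fun a b => ?_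
    · rcases le_total (a : ℕ) b with hle | hle
      · by_contra hne
        refine hxfix (b - a) (fun hd => ?_) ?_
        · have := Nat.eq_zero_of_dvd_of_lt hd (by omega)
          exact hne (Fin.ext (by omega))
        · refine (σ ^ (a : ℕ)).injective ?_
          rw [← MulAut.mul_apply, ← pow_add, Nat.add_sub_cancel' hle, e]
      · by_contra hne
        refine hxfix (a - b) (fun hd => ?_) ?_
        · have := Nat.eq_zero_of_dvd_of_lt hd (by omega)
          exact hne (Fin.ext (by omega))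
        · refine (σ ^ (b : ℕ)).injective ?_
          rw [← MulAut.mul_apply, ← pow_add, Nat.add_sub_cancel' hle, e]
    · fin_cases a <;> fin_cases b <;> simp [hv, Ne.symm hv] at e ⊢
    · fin_cases b
      · exact hmovefix 1 (map_one _) a
      · exact hmovefix v hf a
  have := Nat.card_le_card_of_injective f hf'
  rw [Nat.card_sum, Nat.card_fin, Nat.card_fin, hk] at this
  omega

/-- In the semiregular case a simple group has no such configuration. -/
theorem Setup.false_of_qgroup (hna : ∃ a b : G, a * b ≠ b * a) (h8 : 8 ≤ Nat.card (S : Subgroup G)) (hW : W ≠ ⊥)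
    (hH : IsPGroup q (aut S)) : False := by
  classical
  haveI : Fact (Nat.Prime 2) := ⟨Nat.prime_two⟩
  haveI := Fact.mk hs.hyp.prime
  set N := Subgroup.normalizer ((S : Subgroup G) : Set G) with hN
  haveI : Nontrivial (S : Subgroup G) := Finite.one_lt_card_iff_nontrivial.1 (by omega)
  obtain ⟨v₀, hv₀⟩ := exists_ne (1 : (S : Subgroup G))
  haveI := Fintype.ofFinite (S : Subgroup G)
  have hfree := hs.qgroup_free h8 hH
  obtain ⟨k, hk⟩ := IsPGroup.iff_card.1 S.isPGroup'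
  have h8' : 8 ≤ 2 ^ k := hk ▸ h8
  have hreg : ∀ n : N, ∀ t ∈ (S : Subgroup G), t ≠ 1 → Commute (n : G) t →
      (n : G) ∈ Subgroup.centralizer ((S : Subgroup G) : Set G) := by
    intro n t ht ht1 hc
    refine conjHom_eq_one.1 ?_
    have := hfree ⟨conjHom S n, n, rfl⟩ ⟨t, ht⟩ (fun e => ht1 (congrArg Subtype.val e))
      (Subtype.ext (mul_inv_eq_iff_eq_mul.2 hc.eq))
    exact congrArg Subtype.val this
  -- two swappers of the base point and another point
  obtain ⟨y, hy⟩ := exists_ne hs.se ((1 : G) : G ⧸ N)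
  have h2 : 1 < Nat.card {i : G // orderOf i = 2 ∧ i • ((1 : G) : G ⧸ N) = y} := by
    rw [card_swappers hs.se (Ne.symm hy)]
    obtain ⟨v₁, hv₁, hv10⟩ : ∃ v : (S : Subgroup G), v ≠ 1 ∧ v ≠ v₀ := by
      by_contra hno
      push Not at hno
      let f : ↥(S : Subgroup G) → Bool := fun v => decide (v = 1)
      have hf : Function.Injective f := fun a b e => by
        by_cases ha : a = 1 <;> by_cases hb : b = 1
        · rw [ha, hb]
        · simp [f, ha, hb] at e
        · simp [f, ha, hb] at e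
        · rw [hno a ha, hno b hb]
      have := Nat.card_le_card_of_injective f hf
      simp at this
      rw [← Nat.card_eq_fintype_card, hk] at this
      omega
    have hfx : ∀ v : (S : Subgroup G), v ≠ 1 → orderOf (v : G) = 2 ∧ (v : G) • ((1 : G) : G ⧸ N) = (1 : G) :=
      fun v hv => ⟨hs.ord2 v.2 fun e => hv (Subtype.ext e), Solv.CITGroups.fix_iff.2 (Subgroup.le_normalizer v.2)⟩
    exact Finite.one_lt_card_iff_nontrivial.2 ⟨⟨v₀, hfx v₀ hv₀⟩, ⟨v₁, hfx v₁ hv₁⟩,
      fun e => hv10 (Subtype.ext (congrArg Subtype.val e).symm)⟩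
  obtain ⟨⟨u, huo, huy⟩, ⟨u', huo', huy'⟩, huu⟩ := (Finite.one_lt_card_iff_nontrivial.1 h2).exists_pair_ne
  obtain ⟨g, rfl⟩ := QuotientGroup.mk_surjective y
  have huN : u ∉ N := fun e => hy (huy.symm.trans (Solv.CITGroups.fix_iff.2 e))
  set d := u * u' with hd
  have hdx : d • ((1 : G) : G ⧸ N) = (1 : G) := by
    rw [hd, mul_smul, huy', Solv.CITGroups.swap_back huo huy]
  have hdy : d • (g : G ⧸ N) = g := by
    rw [hd, mul_smul, Solv.CITGroups.swap_back huo' huy', huy]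
  have hdN : d ∈ N := Solv.CITGroups.fix_iff.1 hdx
  have hgN : g ∉ N := fun e => hy (QuotientGroup.eq.2 (by rw [mul_one]; exact inv_mem e))
  have hd1 : d ≠ 1 := fun e => huu (Subtype.ext (by
    show u = u'
    rw [eq_inv_of_mul_eq_one_left e, inv_self huo']))
  have hdodd : Odd (orderOf d) := by
    refine (hs.se.2.2 g hgN).of_dvd_nat (Subgroup.orderOf_dvd_natCard _ (Subgroup.mem_inf.2 ⟨hdN,
      g⁻¹ * d * g, smul_mk_eq_iff.1 hdy, ?_⟩))
    show g * (g⁻¹ * d * g) * g⁻¹ = d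
    group
  have hdo : orderOf d = q := by
    by_cases h1 : conjHom S ⟨d, hdN⟩ = 1
    · exact hs.hyp.orderOf_of_mem hs.pgroup (hs.odd_mem (conjHom_eq_one.1 h1) hdodd) hd1
    · have h3 := hs.lift_order (n := ⟨d, hdN⟩) hdodd h1
      rw [h3]
      obtain ⟨l, hl⟩ := IsPGroup.iff_orderOf.1 hH ⟨conjHom S ⟨d, hdN⟩, _, rfl⟩
      rw [← Subgroup.orderOf_coe] at hl
      have hl0 : l ≠ 0 := fun e => h1 (orderOf_eq_one_iff.1 (hl.trans (by rw [e, pow_zero])))
      rcases hs.hyp.qord d (by rw [show orderOf d = _ from h3, hl]; exact dvd_pow_self q hl0) with e | e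
      · exact h3.symm.trans e
      · exact absurd (e ▸ even_two_mul q) (Nat.not_even_iff_odd.2 hdodd)
  have hdu : u * d * u⁻¹ = d⁻¹ := by
    rw [hd, ← mul_assoc, sq_one huo, one_mul, mul_inv_rev, inv_self huo']
  -- `d` fixes a nontrivial element of `W`
  obtain ⟨z, hz, hz1, hzd⟩ : ∃ z ∈ W, z ≠ 1 ∧ Commute z d := by
    have hdW : Subgroup.zpowers d ≤ Subgroup.normalizer (W : Set G) := Subgroup.zpowers_le.2 (hs.norm hdN)
    letI : MulAction (Subgroup.zpowers d) W :=
      MulAction.compHom W (W.normalizerMonoidHom.comp (Subgroup.inclusion hdW))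
    have hp : IsPGroup q (Subgroup.zpowers d) := IsPGroup.of_card (n := 1) (by rw [Nat.card_zpowers, hdo, pow_one])
    have hWd : q ∣ Nat.card W := by
      obtain ⟨l, hl⟩ := IsPGroup.iff_card.1 hs.pgroup
      refine hl ▸ dvd_pow_self q fun e => hW ?_
      rw [e, pow_zero] at hl
      exact Subgroup.card_eq_one.1 hl
    have h1 : (1 : W) ∈ MulAction.fixedPoints (Subgroup.zpowers d) W := fun g =>
      map_one (W.normalizerMonoidHom (Subgroup.inclusion hdW g))
    obtain ⟨z, hzf, hz1⟩ := hp.exists_fixed_point_of_prime_dvd_card_of_fixed_point W hWd h1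
    exact ⟨z, z.2, fun e => hz1 (Subtype.ext e.symm),
      (mul_inv_eq_iff_eq_mul.1 (congrArg Subtype.val (hzf ⟨d, Subgroup.mem_zpowers d⟩))).symm⟩
  exact hs.no_inverted hreg huo huN hdo hdu hz hz1 hzd

/-- The case of an automiser of order prime to `q`. -/
theorem Setup.false_of_coprime [IsSimpleGroup G] (hW : W ≠ ⊥) (hS : (S : Subgroup G) ≠ ⊥)
    (hH : ¬ q ∣ Nat.card (aut S)) : False := by
  classical
  haveI : Fact (Nat.Prime 2) := ⟨Nat.prime_two⟩
  haveI := Fact.mk hs.hyp.prime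
  set N := Subgroup.normalizer ((S : Subgroup G) : Set G) with hN
  set U := Subgroup.centralizer ((S : Subgroup G) : Set G) with hU
  obtain ⟨⟨t, htS⟩, ht1⟩ := Subgroup.ne_bot_iff_exists_ne_one.1 hS
  obtain ⟨⟨z, hz⟩, hz1⟩ := Subgroup.ne_bot_iff_exists_ne_one.1 hW
  have ht2 : orderOf t = 2 := hs.ord2 htS fun e => ht1 (Subtype.ext e)
  have hUN : U ≤ N := fun x hx => mem_normalizer_of_forall fun v hv => by
    rwa [← Subgroup.mem_centralizer_iff.1 hx v hv, mul_inv_cancel_right]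
  have hNU : N ≤ Subgroup.normalizer (U : Set G) := normalizer_le_normalizer_centralizer
  have hreg : ∀ n : N, ∀ s ∈ (S : Subgroup G), s ≠ 1 → Commute (n : G) s → (n : G) ∈ U := by
    intro n s hs' hs1 hc
    by_contra hn
    have h1 := hs.aut_fixed (g := ⟨conjHom S n, n, rfl⟩)
      (fun e => hn (conjHom_eq_one.1 (congrArg Subtype.val e))) (v := ⟨s, hs'⟩)
      (fun e => hs1 (congrArg Subtype.val e)) (Subtype.ext (mul_inv_eq_iff_eq_mul.2 hc.eq))
    exact hH (h1 ▸ orderOf_dvd_natCard _)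
  have hinf : ∀ y : G ⧸ N, y ≠ ((1 : G) : G ⧸ N) → N ⊓ MulAction.stabilizer G y ⊓ U = ⊥ := by
    intro y hy
    obtain ⟨g, rfl⟩ := QuotientGroup.mk_surjective y
    have hgN : g ∉ N := fun e => hy (QuotientGroup.eq.2 (by simpa using inv_mem e))
    refine (Subgroup.eq_bot_iff_forall _).2 fun x hx => ?_
    obtain ⟨⟨hxN, hxy⟩, hxU⟩ := hx
    have hx' : g⁻¹ * x * g ∈ N := smul_mk_eq_iff.1 hxy
    have hodd : Odd (orderOf x) := (hs.se.2.2 g hgN).of_dvd_nat (Subgroup.orderOf_dvd_natCard _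
      (Subgroup.mem_inf.2 ⟨hxN, g⁻¹ * x * g, hx', show g * (g⁻¹ * x * g) * g⁻¹ = x by group⟩))
    by_contra hx1
    have hxo : orderOf x = q := hs.hyp.orderOf_of_mem hs.pgroup (hs.odd_mem hxU hodd) hx1
    have hxo' : orderOf (g⁻¹ * x * g) = q := by
      have h1 := orderOf_injective (MulAut.conj g⁻¹).toMonoidHom (MulAut.conj g⁻¹).injective x
      rw [← hxo]; simpa [MulAut.conj_apply] using h1
    have hx'W : g⁻¹ * x * g ∈ W := by
      refine hs.odd_mem ((conjHom_eq_one (n := ⟨_, hx'⟩)).1 ?_) (hxo' ▸ hs.hyp.prime.odd_of_ne_two hs.hyp.ne_two)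
      by_contra h1
      have h2 : orderOf (conjHom S ⟨_, hx'⟩) ∣ q := by
        rw [← hxo', ← Subgroup.orderOf_mk _ hx']
        exact orderOf_map_dvd _ _
      have h3 := ((Nat.dvd_prime hs.hyp.prime).1 h2).resolve_left fun e => h1 (orderOf_eq_one_iff.1 e)
      have h4 := orderOf_dvd_natCard (⟨conjHom S ⟨_, hx'⟩, _, rfl⟩ : aut S)
      rw [← Subgroup.orderOf_coe] at h4
      exact hH (h3 ▸ h4)
    have hx'1 : g⁻¹ * x * g ≠ 1 := fun e => hs.hyp.prime.one_lt.ne (by rw [← hxo', e, orderOf_one])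
    refine hgN (mem_normalizer_of_forall fun v hv => ?_)
    by_cases hv1 : v = 1
    · subst hv1
      simpa using one_mem (S : Subgroup G)
    refine hs.mem_sylow_of_two ?_
      ((orderOf_injective (MulAut.conj g).toMonoidHom (MulAut.conj g).injective v).trans (hs.ord2 hv hv1))
    refine hs.centW x (hs.odd_mem hxU hodd) hx1 (memC ?_)
    have h1 := (show Commute v (g⁻¹ * x * g) from
      (Subgroup.mem_centralizer_iff.1 (hs.centr hv) _ hx'W).symm).map (MulAut.conj g)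
    simpa [MulAut.conj_apply, mul_assoc] using h1
  have hF : Frame N U := by
    refine ⟨hs.se, hUN, hNU, fun s hsN hs2 => ?_, hinf, fun y hy d hd hd1 v hv hc => ?_⟩
    · have hsS := hs.mem_sylow_of_two hsN hs2
      refine le_antisymm (fun x hx => ?_) fun x hx => ⟨hUN hx, memC (Subgroup.mem_centralizer_iff.1 hx s hsS).symm⟩
      exact hreg ⟨x, hx.1⟩ s hsS (fun e => by rw [e, orderOf_one] at hs2; omega) (commute_of_memC hx.2)
    · by_contra hv1
      obtain ⟨r, i, hr, hrd, hi⟩ := exists_prime_pow_power hd1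
      have hdi : d ^ i ∈ N ⊓ MulAction.stabilizer G y := Subgroup.pow_mem _ hd i
      have hnU : d ^ i ∉ U := fun e => hr.ne_one (by
        rw [← hi, orderOf_eq_one_iff]
        exact Subgroup.mem_bot.1 ((hinf y hy).le ⟨hdi, e⟩))
      have hr2 : r ≠ 2 := fun e => hnU (Subgroup.mem_centralizer_iff.2 fun s hs' =>
        hs.hyp.two_comm S.isPGroup' hs' (hs.mem_sylow_of_two hdi.1 (e ▸ hi)))
      have hrq : r ≠ q := fun e => by
        set n : N := ⟨d ^ i, hdi.1⟩
        have hne : conjHom S n ≠ 1 := fun e' => hnU (conjHom_eq_one.1 e')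
        have h1 := hs.lift_order (n := n) (by rw [show ((n : G)) = d ^ i from rfl, hi]; exact hr.odd_of_ne_two hr2) hne
        refine hH ?_
        have h2 := orderOf_dvd_natCard (⟨conjHom S n, _, rfl⟩ : aut S)
        rw [← Subgroup.orderOf_coe] at h2
        replace h2 : orderOf (conjHom S n) ∣ Nat.card (aut S) := h2
        rw [← h1, show ((n : G)) = d ^ i from rfl, hi, e] at h2
        exact h2
      obtain ⟨w, hw, s, hs', e⟩ := hs.split v hv
      have hcvw : Commute w s := (Subgroup.mem_centralizer_iff.1 (hs.centr hs') w hw)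
      obtain ⟨r', i', hr', hrd', hi'⟩ := exists_prime_pow_power hv1
      refine hs.hyp.no_commute ?_ hr hr2 hrq hi ((hc.pow_left i').pow_right i)
      rw [hi']
      have h2q : orderOf v ∣ 2 * q := orderOf_dvd_of_pow_eq_one (by
        rw [e, hcvw.mul_pow, mul_comm 2 q, pow_mul, hs.hyp.q_pow hs.pgroup hw, one_pow, one_mul, mul_comm q 2,
          pow_mul, pow_two, hs.hyp.two_sq S.isPGroup' hs', one_pow])
      exact (hr'.dvd_mul.1 (hrd'.trans h2q)).imp (Nat.prime_dvd_prime_iff_eq hr' Nat.prime_two).1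
        (Nat.prime_dvd_prime_iff_eq hr' hs.hyp.prime).1
  obtain ⟨hZ, hreg'⟩ := hF.zassenhaus
  haveI := Fintype.ofFinite (G ⧸ N)
  have hpp := S0346.result hZ
  have hUc : Nat.card U = Fintype.card (G ⧸ N) - 1 := by
    obtain ⟨y, hy⟩ := exists_ne hs.se ((1 : G) : G ⧸ N)
    let f : U → {w : G ⧸ N // w ≠ ((1 : G) : G ⧸ N)} := fun u => ⟨(u : G) • y, fun e => hy (by
      rw [← inv_smul_smul (u : G) y, e, smul_mk_eq_iff]
      simpa using hUN u.2)⟩
    rw [Nat.card_eq_of_bijective f ⟨fun u v e => ?_, fun w => ?_⟩, Nat.card_eq_fintype_card,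
      Fintype.card_subtype_compl, Fintype.card_subtype_eq]
    · have hne : (u : G) • y ≠ ((1 : G) : G ⧸ N) := (f u).2
      exact (hreg' y ((u : G) • y) hy hne).unique rfl (congrArg Subtype.val e).symm
    · obtain ⟨u, hu, -⟩ := hreg' y w.1 hy w.2
      exact ⟨u, Subtype.ext hu⟩
  rw [← hUc] at hpp
  obtain ⟨p, m, hp, -, hpm⟩ := (isPrimePow_def _).1 hpp
  have hp' := Nat.prime_iff.2 hp
  have h2 : 2 ∣ Nat.card U := ht2 ▸ Subgroup.orderOf_dvd_natCard U
    (Subgroup.mem_centralizer_iff.2 fun v hv => hs.hyp.two_comm S.isPGroup' hv htS)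
  have hqd : q ∣ Nat.card U := (hs.hyp.orderOf_of_mem hs.pgroup hz fun e => hz1 (Subtype.ext e)) ▸
    Subgroup.orderOf_dvd_natCard U (hs.W_le hz)
  rw [← hpm] at h2 hqd
  exact hs.hyp.ne_two (((Nat.prime_dvd_prime_iff_eq hs.hyp.prime hp').1 (hs.hyp.prime.dvd_of_dvd_pow hqd)).trans
    ((Nat.prime_dvd_prime_iff_eq Nat.prime_two hp').1 (Nat.prime_two.dvd_of_dvd_pow h2)).symm)

/-- An automiser with a nontrivial normal `q`-complement and order divisible by `q` is excluded. -/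
theorem Setup.false_of_mixed (hW : W ≠ ⊥) {P F : Subgroup (aut S)} (hP : IsPGroup q P) (hP1 : P ≠ ⊥) (hF : F.Normal)
    (hFq : ¬ q ∣ Nat.card F) (hF1 : F ≠ ⊥) : False := by
  classical
  haveI := Fact.mk hs.hyp.prime
  obtain ⟨⟨g₀, hg₀P⟩, hg₀⟩ := Subgroup.ne_bot_iff_exists_ne_one.1 hP1
  have hg₀o : orderOf g₀ = q := hs.aut_qGroup_pow hP hg₀P fun e => hg₀ (Subtype.ext e)
  obtain ⟨r, hr, hrd⟩ := Nat.exists_prime_and_dvd (fun e => hF1 (Subgroup.card_eq_one.1 e))
  haveI := Fact.mk hr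
  have hrq : r ≠ q := fun e => hFq (e ▸ hrd)
  have hAF : Subgroup.zpowers g₀ ≤ Subgroup.normalizer (F : Set (aut S)) := by
    rw [@Subgroup.normalizer_eq_top _ _ _ hF]; exact le_top
  obtain ⟨R, hR, hAR⟩ := Solv.exists_invariant_sylow hAF
    (by rw [Nat.card_zpowers, hg₀o]; exact hs.hyp.prime.coprime_iff_not_dvd.2 hFq)
    (Or.inl (Group.isSolvable_of_comm fun a b => mul_comm' a b)) r
  have hRp : IsPGroup r R := hR.isPGroup
  have hR1 : 1 < Nat.card R := by
    rw [hR.2]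
    exact Nat.one_lt_pow (Finsupp.mem_support_iff.1
      (Nat.support_factorization _ ▸ Nat.mem_primeFactors.2 ⟨hr, hrd, Nat.card_pos.ne'⟩)) hr.one_lt
  set N := Subgroup.normalizer ((S : Subgroup G) : Set G) with hN
  set π := (conjHom S).rangeRestrict with hπ
  have hπs : Function.Surjective π := MonoidHom.rangeRestrict_surjective _
  set X := R.comap π with hX
  set XG := X.map N.subtype with hXG
  obtain ⟨R₁, hR₁⟩ := Solv.exists_isSylIn r XG
  obtain ⟨n, hn⟩ := hπs g₀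
  have hnX : (n : G) ∈ Subgroup.normalizer (XG : Set G) := mem_normalizer_of_forall fun y hy => by
    obtain ⟨x, hx, rfl⟩ := hy
    refine ⟨n * x * n⁻¹, ?_, rfl⟩
    show π (n * x * n⁻¹) ∈ R
    rw [map_mul, map_mul, map_inv, hn]
    exact (Subgroup.mem_normalizer_iff.1 (hAR (Subgroup.mem_zpowers g₀)) _).1 hx
  obtain ⟨x, hx, hxe⟩ := (hR₁.conj hnX).exists_conj hR₁
  obtain ⟨x', hx', rfl⟩ := hx
  have hm : (x' : G) * n ∈ Subgroup.normalizer (R₁ : Set G) := by
    refine mem_normalizer_of_forall fun y hy => ?_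
    rw [← hxe]
    exact ⟨(n : G) * y * (n : G)⁻¹, ⟨y, hy, rfl⟩, show (x' : G) * ((n : G) * y * (n : G)⁻¹) * (x' : G)⁻¹ = _ by group⟩
  set m : N := x' * n with hm'
  have hqm : q ∣ orderOf (π m) := by
    set k := orderOf (π m)
    have h1 : ∀ i : ℕ, (π m) ^ i * (g₀ ^ i)⁻¹ ∈ R := by
      intro i
      induction i with
      | zero => simp
      | succ i ih =>
        rw [pow_succ, pow_succ, show π m ^ i * π m * (g₀ ^ i * g₀)⁻¹ =
          π m ^ i * (g₀ ^ i)⁻¹ * (g₀ ^ i * (π m * g₀⁻¹) * (g₀ ^ i)⁻¹) by group]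
        refine mul_mem ih ((Subgroup.mem_normalizer_iff.1 (hAR (Subgroup.npow_mem_zpowers g₀ i)) _).1 ?_)
        rw [hm', map_mul, hn, mul_inv_cancel_right]
        exact hx'
    have h2 := h1 k
    rw [pow_orderOf_eq_one, one_mul, Subgroup.inv_mem_iff] at h2
    obtain ⟨j, hj⟩ := IsPGroup.iff_orderOf.1 hRp ⟨_, h2⟩
    rw [Subgroup.orderOf_mk] at hj
    by_contra hqk
    have h3 : g₀ ^ k = 1 := orderOf_eq_one_iff.1 (Nat.eq_one_of_dvd_coprimes
      (Nat.Coprime.pow_left j ((Nat.coprime_primes hr hs.hyp.prime).2 hrq)) hj.dvd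
      (hg₀o ▸ orderOf_pow_dvd k))
    exact hqk (hg₀o ▸ orderOf_dvd_of_pow_eq_one h3)
  obtain ⟨w, hwz, hwo⟩ : ∃ w ∈ Subgroup.zpowers (m : G), orderOf w = q := by
    have h1 : q ∣ orderOf (m : G) := hqm.trans (by rw [Subgroup.orderOf_coe]; exact orderOf_map_dvd _ _)
    exact ⟨(m : G) ^ (orderOf (m : G) / q), Subgroup.npow_mem_zpowers _ _,
      orderOf_pow_orderOf_div (orderOf_pos _).ne' h1⟩
  have hwR : w ∈ Subgroup.normalizer (R₁ : Set G) := Subgroup.zpowers_le.2 hm hwz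
  have hwW : w ∈ Subgroup.normalizer (W : Set G) := hs.norm (Subgroup.zpowers_le.2 m.2 hwz)
  have hR₁p : IsPGroup r R₁ := hR₁.isPGroup
  have hR₁nt : Nontrivial R₁ := by
    rw [← Finite.one_lt_card_iff_nontrivial, hR₁.2]
    have hdX : r ∣ Nat.card XG := by
      rw [Subgroup.card_map_of_injective N.subtype_injective]
      have h1 : Nat.card R ∣ Nat.card X := by
        have h2 := Subgroup.card_map_dvd X π
        rwa [Subgroup.map_comap_eq_self_of_surjective hπs] at h2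
      refine Dvd.dvd.trans ?_ h1
      obtain ⟨j, hj⟩ := IsPGroup.iff_card.1 hRp
      rw [hj] at hR1 ⊢
      exact dvd_pow_self r (by rintro rfl; simp at hR1)
    exact Nat.one_lt_pow (Finsupp.mem_support_iff.1
      (Nat.support_factorization _ ▸ Nat.mem_primeFactors.2 ⟨hr, hdX, Nat.card_pos.ne'⟩)) hr.one_lt
  set E := (Subgroup.center R₁).map R₁.subtype with hE
  haveI := hR₁p.center_nontrivial
  obtain ⟨⟨e, he⟩, he1⟩ := _root_.exists_ne (1 : Subgroup.center R₁)
  have hEab : IsMulCommutative E := ⟨⟨fun a b => by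
    obtain ⟨a', ha', ea⟩ := a.2
    obtain ⟨b', hb', eb⟩ := b.2
    refine Subtype.ext ?_
    show (a : G) * b = b * a
    rw [← ea, ← eb, ← map_mul, ← map_mul, Subgroup.mem_center_iff.1 hb' a']⟩⟩
  have hwE : w ∈ Subgroup.normalizer (E : Set G) := mem_normalizer_of_forall fun y hy => by
    obtain ⟨a, ha, rfl⟩ := hy
    exact ⟨R₁.normalizerMonoidHom ⟨w, hwR⟩ a, (MulEquivClass.apply_mem_center_iff _).2 ha, rfl⟩
  have hEN : E ≤ Subgroup.normalizer (W : Set G) :=
    ((Subgroup.map_subtype_le _).trans hR₁.1).trans ((Subgroup.map_subtype_le _).trans hs.norm)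
  have hEr : IsPGroup r E := hR₁p.to_le (Subgroup.map_subtype_le _)
  have hqE : ¬ q ∣ Nat.card E := fun hd => by
    obtain ⟨j, hj⟩ := IsPGroup.iff_card.1 hEr
    rw [hj] at hd
    exact hrq.symm ((Nat.prime_dvd_prime_iff_eq hs.hyp.prime hr).1 (hs.hyp.prime.dvd_of_dvd_pow hd))
  have hc := commutator_mem_centralizer hs.hyp.prime hs.pgroup hEab hwW hwE hEN (hwo ▸ pow_orderOf_eq_one w)
    (hs.hyp.norm_pow hs.hyp.prime hs.hyp.ne_two hwo hwW (Or.inl hs.pgroup)) hqE e ⟨e, he, rfl⟩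
  obtain ⟨⟨z, hz⟩, hz1⟩ := Subgroup.ne_bot_iff_exists_ne_one.1 hW
  have hr2 : r ≠ 2 := fun e2 => by
    subst e2
    exact Nat.not_even_iff_odd.2 (hs.aut_odd.of_dvd_nat (Subgroup.card_subgroup_dvd_card F)) (even_iff_two_dvd.2 hrd)
  have hkey : ∀ x : G, x ∈ E → x ≠ 1 → ∀ y : G, orderOf y = q → Commute y x → False := by
    intro x hx hx1 y hy hcy
    obtain ⟨r', i, hr', hrd', hi⟩ := exists_prime_pow_power hx1
    obtain ⟨l, hl⟩ := IsPGroup.iff_orderOf.1 hEr ⟨x, hx⟩
    rw [Subgroup.orderOf_mk] at hl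
    have : r' = r := (Nat.prime_dvd_prime_iff_eq hr' hr).1 (hr'.dvd_of_dvd_pow (hl ▸ hrd'))
    exact hs.hyp.no_commute (Or.inr hy) hr hr2 hrq (this ▸ hi) (hcy.pow_right i)
  have hce : ((e : R₁) : G)⁻¹ * (w * (e : R₁) * w⁻¹) = 1 := by
    by_contra hne
    exact hkey _ (mul_mem (inv_mem ⟨e, he, rfl⟩) ((Subgroup.mem_normalizer_iff.1 hwE _).1 ⟨e, he, rfl⟩)) hne z
      (hs.hyp.orderOf_of_mem hs.pgroup hz fun e' => hz1 (Subtype.ext e')) (Subgroup.mem_centralizer_iff.1 hc z hz)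
  exact hkey (e : R₁) ⟨e, he, rfl⟩ (fun e' => he1 (Subtype.ext (Subtype.ext e'))) w hwo
    (mul_inv_eq_iff_eq_mul.1 (inv_mul_eq_one.1 hce).symm)

theorem Setup.W_eq_bot [IsSimpleGroup G] (hna : ∃ a b : G, a * b ≠ b * a) (h8 : 8 ≤ Nat.card (S : Subgroup G)) :
    W = ⊥ := by
  by_contra hW
  haveI := Fact.mk hs.hyp.prime
  obtain ⟨P⟩ : Nonempty (Sylow q (aut S)) := inferInstance
  obtain ⟨F, hF, hc⟩ := hs.aut_complement P
  have hFq : ¬ q ∣ Nat.card F := by
    rw [← hc.index_eq_card]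
    exact P.not_dvd_index
  by_cases hP1 : (P : Subgroup (aut S)) = ⊥
  · refine hs.false_of_coprime hW (fun e => by rw [e, Subgroup.card_bot] at h8; omega) ?_
    have := hc.card_mul
    rw [hP1, Subgroup.card_bot, mul_one] at this
    rwa [← this]
  by_cases hF1 : F = ⊥
  · subst hF1
    refine hs.false_of_qgroup hna h8 hW (P.isPGroup'.of_equiv ?_)
    exact (MulEquiv.subgroupCongr (Subgroup.isComplement'_bot_left.1 hc)).trans Subgroup.topEquiv
  exact hs.false_of_mixed hW P.isPGroup' hP1 hF hFq hF1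

end Cfsg.Agent.Lie.TwoQ
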