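import Cfsg.Agent.Lib.Solv.HallHigman
import Mathlib.GroupTheory.FixedPointFree

/-!
# Vanishing norms force trivial action

If a cyclic operator of prime order has trivial norm on a module for an abelian group it normalises, then the commutators of
the abelian group with the operator act trivially.
-/

set_option autoImplicit false
set_option linter.unusedSectionVars false
set_option linter.style.haveILetI false

namespace Cfsg.Agent.Lie.TwoQ

open Finset

section Abstract

variable {W : Type*} {E : Type*} [CommGroup W] [CommGroup E] [Finite W] [Finite E]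

/-- Linear independence of the conjugate operators, up to the fixed part. -/
theorem fixes_aux (φ : E →* MulAut W) (s : MulAut E) {r : ℕ} (hr : r.Prime) (hs : s ^ r = 1)
    (hco : (Nat.card W).Coprime (Nat.card E)) : ∀ (J : Finset ℕ), J ⊆ range r → ∀ w : ℕ → W,
      (∀ e : E, ∏ i ∈ J, φ ((s ^ i) e) (w i) = 1) → ∀ i ∈ J, ∀ e : E, φ (e⁻¹ * s e) (w i) = w i := by
  intro J
  induction J using Finset.strongInduction with
  | H J ih =>
    intro hJ w hw i hi e
    by_cases hone : J = {i}
    · have h := hw 1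
      rw [hone, prod_singleton, map_one, map_one, MulAut.one_apply] at h
      rw [h, map_one]
    obtain ⟨k, hk, hki⟩ : ∃ k ∈ J, k ≠ i := by
      by_contra hc
      push Not at hc
      exact hone (eq_singleton_iff_unique_mem.2 ⟨hi, hc⟩)
    have happ : ∀ (a b : E) (v : W), φ a (φ b v) = φ (a * b) v := fun a b v => by
      rw [map_mul, MulAut.mul_apply]
    set d := e⁻¹ * s e with hd
    -- the commutator is a quotient of two conjugates
    have hir := mem_range.1 (hJ hi)
    have hkr := mem_range.1 (hJ hk)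
    obtain ⟨j, hj, hjk⟩ : ∃ j, ¬ r ∣ j ∧ (j + k) % r = i := by
      refine ⟨i + (r - k), fun hdvd => ?_, ?_⟩
      · rcases lt_or_gt_of_ne hki with h | h
        · have h' : r ∣ (i - k) + r := by rwa [show (i - k) + r = i + (r - k) by omega]
          rw [Nat.dvd_add_self_right] at h'
          have := Nat.le_of_dvd (by omega) h'
          omega
        · have := Nat.le_of_dvd (by omega) hdvd
          omega
      · rw [show i + (r - k) + k = i + r by omega, Nat.add_mod_right, Nat.mod_eq_of_lt hir]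
    have hsi : ∀ f : E, (s ^ j) ((s ^ k) f) = (s ^ i) f := fun f => by
      rw [← MulAut.mul_apply, ← pow_add, ← hjk]
      conv_lhs => rw [← Nat.mod_add_div (j + k) r, pow_add, pow_mul, hs, one_pow, mul_one]
    obtain ⟨l, hl⟩ : ∃ l, (j * l) % r = 1 := by
      obtain ⟨l, hl⟩ := Nat.exists_mul_mod_eq_one_of_coprime ((hr.coprime_iff_not_dvd.2 hj).symm) hr.one_lt
      exact ⟨l, hl.2⟩
    obtain ⟨f', hf'⟩ : ∃ f' : E, d = (s ^ j) f' * f'⁻¹ := by
      refine ⟨∏ m ∈ range l, (s ^ (j * m)) e, ?_⟩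
      rw [map_prod]
      simp only [← MulAut.mul_apply, ← pow_add]
      rw [← div_eq_mul_inv, ← prod_div_distrib]
      have ht := prod_range_div (fun m => (s ^ (j * m)) e) l
      simp only [mul_zero, pow_zero, MulAut.one_apply] at ht
      rw [show (∏ x ∈ range l, (s ^ (j + j * x)) e / (s ^ (j * x)) e) = _ from
        (prod_congr rfl fun x _ => by rw [show j + j * x = j * (x + 1) by ring]).trans ht,
        ← Nat.mod_add_div (j * l) r, hl, pow_add, pow_mul, hs, one_pow, mul_one, pow_one, hd, div_eq_mul_inv,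
        mul_comm]
    obtain ⟨f, rfl⟩ := (s ^ k).surjective f'
    rw [hsi] at hf'
    -- eliminate the chosen index
    set w' : ℕ → W := fun n => φ ((s ^ n) f) (w n) * (φ ((s ^ k) f) (w n))⁻¹ with hw'
    have hsub : J.erase k ⊂ J := erase_ssubset hk
    have key := ih _ hsub ((erase_subset _ _).trans hJ) w' (fun e' => by
      have h0 : φ ((s ^ k) e') (w' k) = 1 := by simp [hw']
      classical
      rw [Finset.prod_erase (f := fun n => φ ((s ^ n) e') (w' n)) J h0]
      have h1 : ∀ n, φ ((s ^ n) e') (w' n) =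
          φ ((s ^ n) (e' * f)) (w n) * (φ ((s ^ k) f) (φ ((s ^ n) e') (w n)))⁻¹ := fun n => by
        simp only [hw', map_mul (φ _), map_inv, happ, map_mul ((s ^ n) : MulAut E)]
        rw [mul_comm ((s ^ n) e') ((s ^ k) f)]
      simp only [h1]
      rw [prod_mul_distrib, prod_inv_distrib, hw, ← map_prod, hw, map_one, inv_one, mul_one]) i
      (mem_erase.2 ⟨hki.symm, hi⟩) e
    rw [← hd] at key
    -- so the commutator acts on the element by a fixed translation
    have hx : φ d (φ d (w i) * (w i)⁻¹) = φ d (w i) * (w i)⁻¹ := by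
      set g := (s ^ k) f with hg
      have e1 : w' i = φ g (φ d (w i) * (w i)⁻¹) := by
        simp only [hw', map_mul (φ g), map_inv, happ, hf']
        rw [mul_comm g, inv_mul_cancel_right]
      rw [e1, happ, mul_comm d, ← happ] at key
      exact (φ g).injective key
    obtain ⟨x, hxd⟩ : ∃ x, x = φ d (w i) * (w i)⁻¹ := ⟨_, rfl⟩
    rw [← hxd] at hx
    have hwx : φ d (w i) = x * w i := by rw [hxd, inv_mul_cancel_right]
    have hpow : ∀ n : ℕ, φ (d ^ n) (w i) = x ^ n * w i := by
      intro n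
      induction n with
      | zero => simp
      | succ n ihn =>
        rw [pow_succ', ← happ, ihn, map_mul (φ d), map_pow (φ d), hx, hwx, pow_succ, mul_assoc]
    have h2 := hpow (Nat.card E)
    rw [pow_card_eq_one', map_one, MulAut.one_apply] at h2
    have hx1 : x = 1 := orderOf_eq_one_iff.1 (Nat.eq_one_of_dvd_coprimes hco (orderOf_dvd_natCard x)
      (orderOf_dvd_of_pow_eq_one (mul_eq_right.1 h2.symm)))
    rw [hwx, hx1, one_mul]

/-- Vanishing norm forces the commutators to act trivially. -/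
theorem fixes (φ : E →* MulAut W) (s : MulAut E) (σ : MulAut W) {r : ℕ} (hr : r.Prime) (hs : s ^ r = 1)
    (hco : (Nat.card W).Coprime (Nat.card E)) (hcomp : ∀ e v, σ (φ e v) = φ (s e) (σ v))
    (hN : ∀ v, ∏ i ∈ range r, (σ ^ i) v = 1) (e : E) (v : W) : φ (e⁻¹ * s e) v = v := by
  have hc : ∀ (i : ℕ) (e' : E) (u : W), (σ ^ i) (φ e' u) = φ ((s ^ i) e') ((σ ^ i) u) := by
    intro i
    induction i with
    | zero => simp
    | succ i ih => intro e' u; simp only [pow_succ', MulAut.mul_apply, ih, hcomp]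
  have h := fixes_aux φ s hr hs hco (range r) subset_rfl (fun i => (σ ^ i) v)
    (fun e' => by rw [← hN (φ e' v)]; exact prod_congr rfl fun i _ => (hc i e' v).symm) 0 (mem_range.2 hr.pos) e
  simpa using h

end Abstract

section Groups

open scoped IsMulCommutative

variable {X : Type*} [Group X] [Finite X]

/-- The norm of conjugation. -/
theorem coe_prod_conj (W : Subgroup X) [IsMulCommutative W] {a : X} (ha : a ∈ Subgroup.normalizer (W : Set X))
    (v : W) : ∀ n : ℕ,
      ((∏ i ∈ range n, ((W.normalizerMonoidHom ⟨a, ha⟩) ^ i) v : W) : X) * a ^ n = ((v : X) * a) ^ n := by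
  intro n
  induction n with
  | zero => simp
  | succ n ih =>
    have hpow : (((W.normalizerMonoidHom ⟨a, ha⟩) ^ n) v : X) = a ^ n * v * (a ^ n)⁻¹ := by
      rw [← map_pow]
      rfl
    rw [prod_range_succ, Subgroup.coe_mul, hpow, pow_succ ((v : X) * a), ← ih, pow_succ a]
    group

/-- Vanishing norm forces the commutators to centralise. -/
theorem commutator_commute {W E : Subgroup X} {a : X} {r : ℕ} (hr : r.Prime) (hWab : IsMulCommutative W)
    (hEab : IsMulCommutative E) (haW : a ∈ Subgroup.normalizer (W : Set X))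
    (haE : a ∈ Subgroup.normalizer (E : Set X)) (hEW : E ≤ Subgroup.normalizer (W : Set X)) (ha : a ^ r = 1)
    (hnorm : ∀ w ∈ W, (w * a) ^ r = 1) (hco : (Nat.card W).Coprime (Nat.card E)) :
    ∀ e ∈ E, ∀ w ∈ W, Commute (e⁻¹ * (a * e * a⁻¹)) w := by
  classical
  haveI := hWab
  haveI := hEab
  let φ : E →* MulAut W := W.normalizerMonoidHom.comp (Subgroup.inclusion hEW)
  have hs : (E.normalizerMonoidHom ⟨a, haE⟩) ^ r = 1 := by
    rw [← map_pow, show (⟨a, haE⟩ : Subgroup.normalizer (E : Set X)) ^ r = 1 from Subtype.ext ha, map_one]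
  intro e he w hw
  have hN : ∀ v : W, ∏ i ∈ range r, ((W.normalizerMonoidHom ⟨a, haW⟩) ^ i) v = 1 := fun v => by
    have h := coe_prod_conj W haW v r
    rw [ha, mul_one, hnorm v v.2] at h
    exact Subtype.ext h
  have h := fixes φ (E.normalizerMonoidHom ⟨a, haE⟩) (W.normalizerMonoidHom ⟨a, haW⟩) hr hs hco (fun e' v => by
    refine Subtype.ext ?_
    show a * ((e' : X) * v * (e' : X)⁻¹) * a⁻¹ = (a * e' * a⁻¹) * (a * v * a⁻¹) * (a * e' * a⁻¹)⁻¹
    group) hN ⟨e, he⟩ ⟨w, hw⟩
  have h2 : e⁻¹ * (a * e * a⁻¹) * w * (e⁻¹ * (a * e * a⁻¹))⁻¹ = w := congrArg Subtype.val h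
  exact mul_inv_eq_iff_eq_mul.1 h2

open scoped commutatorElement in
/-- The same for a `p`-group, through the Frattini quotient. -/
theorem commutator_mem_centralizer {p : ℕ} [Fact p.Prime] {W E : Subgroup X} {a : X} {r : ℕ} (hr : r.Prime)
    (hW : IsPGroup p W) (hEab : IsMulCommutative E) (haW : a ∈ Subgroup.normalizer (W : Set X))
    (haE : a ∈ Subgroup.normalizer (E : Set X)) (hEW : E ≤ Subgroup.normalizer (W : Set X)) (ha : a ^ r = 1)
    (hnorm : ∀ w ∈ W, (w * a) ^ r = 1) (hpE : ¬ p ∣ Nat.card E) :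
    ∀ e ∈ E, e⁻¹ * (a * e * a⁻¹) ∈ Subgroup.centralizer (W : Set X) := by
  classical
  intro e he
  set N := Subgroup.normalizer (W : Set X) with hNdef
  set W' := W.subgroupOf N with hW'
  haveI : W'.Normal := Subgroup.normal_in_normalizer
  have hW'p : IsPGroup p W' := hW.of_equiv (Subgroup.subgroupOfEquivOfLe Subgroup.le_normalizer).symm
  set Φ := (frattini W').map W'.subtype with hΦ
  haveI : Φ.Normal := ⟨fun z hz g => by
    obtain ⟨u, hu, rfl⟩ := hz
    refine ⟨MulAut.conjNormal g u, ?_, MulAut.conjNormal_apply g u⟩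
    rw [← Subgroup.characteristic_iff_map_eq.1 (inferInstance : (frattini ↥W').Characteristic) (MulAut.conjNormal g)]
    exact ⟨u, hu, rfl⟩⟩
  set π := QuotientGroup.mk' Φ
  set a' : N := ⟨a, haW⟩
  set E' := E.subgroupOf N with hE'
  have hd : e⁻¹ * (a * e * a⁻¹) ∈ N := mul_mem (inv_mem (hEW he)) (mul_mem (mul_mem haW (hEW he)) (inv_mem haW))
  have hE'ab : IsMulCommutative (E'.map π) := ⟨⟨by
    rintro ⟨_, x, hx, rfl⟩ ⟨_, y, hy, rfl⟩
    refine Subtype.ext ?_
    show π x * π y = π y * π x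
    rw [← map_mul, ← map_mul]
    exact congrArg π (Subtype.ext (congrArg (fun z : E => (z : X)) (hEab.is_comm.comm ⟨(x : X), hx⟩ ⟨(y : X), hy⟩)))⟩⟩
  have hW'ab : IsMulCommutative (W'.map π) := ⟨⟨by
    rintro ⟨_, x, hx, rfl⟩ ⟨_, y, hy, rfl⟩
    refine Subtype.ext ?_
    show π x * π y = π y * π x
    rw [← commutatorElement_eq_one_iff_mul_comm, ← map_commutatorElement]
    refine (QuotientGroup.eq_one_iff _).2 ⟨⁅(⟨x, hx⟩ : W'), ⟨y, hy⟩⁆,
      Solv.commutatorElement_mem_frattini hW'p _ _, ?_⟩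
    exact map_commutatorElement W'.subtype _ _⟩⟩
  have hco : (Nat.card (W'.map π)).Coprime (Nat.card (E'.map π)) := by
    obtain ⟨n, hn⟩ := IsPGroup.iff_card.1 hW'p
    refine Nat.Coprime.coprime_dvd_left (hn ▸ Subgroup.card_map_dvd _ π) ?_
    refine Nat.Coprime.coprime_dvd_right ((Subgroup.card_map_dvd _ π).trans
      (dvd_of_eq (Nat.card_congr (Subgroup.subgroupOfEquivOfLe hEW).toEquiv))) ?_
    exact Nat.Coprime.pow_left n ((Fact.out : p.Prime).coprime_iff_not_dvd.2 hpE)
  have hh := commutator_commute (X := N ⧸ Φ) (W := W'.map π) (E := E'.map π) (a := π a') hr hW'ab hE'ab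
    (Subgroup.le_normalizer_map π ⟨a', by rw [hW', @Subgroup.normalizer_eq_top _ _ _ ‹W'.Normal›]; exact Subgroup.mem_top _, rfl⟩)
    (Subgroup.le_normalizer_map π ⟨a', Subgroup.mem_normalizer_iff.2 fun z => Subgroup.mem_normalizer_iff.1 haE z, rfl⟩)
    (by
      rintro _ ⟨x, -, rfl⟩
      exact Subgroup.le_normalizer_map π ⟨x, by
        rw [hW', @Subgroup.normalizer_eq_top _ _ _ ‹W'.Normal›]; exact Subgroup.mem_top _, rfl⟩)
    (by rw [← map_pow, show a' ^ r = 1 from Subtype.ext ha, map_one])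
    (by
      rintro _ ⟨x, hx, rfl⟩
      rw [← map_mul, ← map_pow, show (x * a') ^ r = 1 from Subtype.ext (hnorm _ hx), map_one])
    hco (π ⟨e, hEW he⟩) ⟨⟨e, hEW he⟩, he, rfl⟩
  set d : N := ⟨e⁻¹ * (a * e * a⁻¹), hd⟩ with hddef
  have hdE : (d : X) ∈ E := mul_mem (inv_mem he) ((Subgroup.mem_normalizer_iff.1 haE e).1 he)
  have hco2 : (orderOf d).Coprime p := by
    refine ((Fact.out : p.Prime).coprime_iff_not_dvd.2 fun hdvd => hpE (hdvd.trans ?_)).symm
    rw [← Subgroup.orderOf_coe]
    exact Subgroup.orderOf_dvd_natCard E hdE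
  have hcent := Solv.centralizes_of_frattini W' hW'p d (by
    rw [hW', @Subgroup.normalizer_eq_top _ _ _ ‹W'.Normal›]; exact Subgroup.mem_top _) hco2 fun x hx => by
    rw [← hΦ, ← QuotientGroup.eq_one_iff]
    show π ⁅x, d⁆ = 1
    rw [map_commutatorElement, commutatorElement_eq_one_iff_mul_comm]
    exact (hh (π x) ⟨x, hx, rfl⟩).eq.symm
  refine Subgroup.mem_centralizer_iff.2 fun w hw => ?_
  exact congrArg Subtype.val (Subgroup.mem_centralizer_iff.1 hcent ⟨w, Subgroup.le_normalizer hw⟩ hw)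

end Groups

end Cfsg.Agent.Lie.TwoQ
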