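import Cfsg.Agent.Lib.Lie.TwoQ.LargeT

/-!
# Simple groups in which the orders divisible by two or by one odd prime `q` are `2`, `q` and `2q`
-/

set_option autoImplicit false
set_option linter.unusedSectionVars false
set_option linter.style.haveILetI false

namespace Cfsg.Agent.Lie.TwoQ

open Cfsg

universe u

variable {G : Type u} [Group G] [Finite G] {q : ℕ}

/-- Such a simple group is `PSL₂` over a field of odd order. -/
theorem simple_two_q [IsSimpleGroup G] (hna : ∃ a b : G, a * b ≠ b * a) (h : Hyp G q) :
    ∃ (F : Type) (_ : Field F) (_ : Fintype F), Odd (Fintype.card F) ∧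
      Nonempty (G ≃* Matrix.ProjectiveSpecialLinearGroup (Fin 2) F) := by
  classical
  haveI : Fact (Nat.Prime 2) := ⟨Nat.prime_two⟩
  obtain ⟨S⟩ : Nonempty (Sylow 2 G) := inferInstance
  obtain ⟨x, hx⟩ := h.ex
  have h2 : 2 ∣ Nat.card G := (dvd_mul_right 2 q).trans (hx ▸ orderOf_dvd_natCard x)
  obtain ⟨k, hk⟩ := IsPGroup.iff_card.1 S.isPGroup'
  rcases Nat.lt_or_ge k 2 with hk2 | hk2
  · exfalso
    have hk0 : k ≠ 0 := fun e => by
      have h1 := (S : Subgroup G).card_mul_index
      rw [hk, e, pow_zero, one_mul] at h1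
      exact S.not_dvd_index (h1 ▸ h2)
    have hk1 : k = 1 := by omega
    rw [hk1, pow_one] at hk
    refine Small.SmallOrders.false_of_central S (by rw [hk]; norm_num) ?_ fun n hn => ?_
    · rw [hk]
      refine lt_of_le_of_ne (Nat.le_of_dvd Nat.card_pos h2) fun e => ?_
      obtain ⟨a, b, hab⟩ := hna
      have h3 : (S : Subgroup G) = ⊤ := Subgroup.eq_top_of_card_eq _ (hk.trans e)
      exact hab (h.two_comm S.isPGroup' (h3 ▸ Subgroup.mem_top a) (h3 ▸ Subgroup.mem_top b))
    · refine Subgroup.mem_centralizer_iff.2 fun v hv => ?_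
      by_cases hv1 : v = 1
      · rw [hv1, one_mul, mul_one]
      have hall : ∀ y ∈ (S : Subgroup G), y = 1 ∨ y = v := by
        intro y hy
        by_contra hc
        push Not at hc
        let f : Fin 3 → (S : Subgroup G) := ![1, ⟨v, hv⟩, ⟨y, hy⟩]
        have hf : Function.Injective f := by
          intro i j e
          fin_cases i <;> fin_cases j <;>
            first | rfl | (exfalso; simp [f, Subtype.ext_iff, hv1, hc.1, hc.2, Ne.symm hv1, Ne.symm hc.1, Ne.symm hc.2] at e)
        have := Nat.card_le_card_of_injective f hf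
        rw [hk, Nat.card_fin] at this
        omega
      rcases hall _ ((Subgroup.mem_normalizer_iff.1 hn v).1 hv) with e | e
      · exact absurd (conj_eq_one_iff.1 e) hv1
      · exact (mul_inv_eq_iff_eq_mul.1 e).symm
  rcases Nat.lt_or_ge k 3 with hk3 | hk3
  · exact h.klein_psl hna S (by rw [hk, show k = 2 by omega]; norm_num)
  · exact (h.false_of_eight hna S (by
      rw [hk]
      exact (Nat.pow_le_pow_right two_pos hk3))).elim

end Cfsg.Agent.Lie.TwoQ
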